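import Groth.Agent.H20HM.Corep
import Groth.Agent.H20Comod.Stability
import Groth.Agent.H20Forms.Basic
import Groth.Prelude.Def_GLin5
import Mathlib.Algebra.MonoidAlgebra.Basic

/-!
# Points of the general linear group and the weight decomposition of a corepresentation
-/

set_option autoImplicit false

universe u v w

open TensorProduct HopfRep WithConv Matrix CoordGrp

namespace Groth.Agent.H20HM

noncomputable section

variable {k : Type u} [Field k] {N : ℕ} {B : Type v} [CommRing B] [Algebra k B]

/-- Points of `GL_N`. -/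
abbrev GP (k : Type u) [Field k] (N : ℕ) (B : Type v) [CommRing B] [Algebra k B] : Type (max u v) :=
  WithConv (GLn N k →ₐ[k] B)

theorem isCorep_genMat : IsCorep k (GLn.genMat N k) :=
  ⟨fun i j => GLn.comul_X i j, fun i j => (GLn.counit_X i j).trans Matrix.one_apply.symm⟩

/-- The matrix of a point. -/
def glMat (g : GP k N B) : Matrix (Fin N) (Fin N) B := ev (GLn.genMat N k) g

theorem glMat_apply (g : GP k N B) (i j : Fin N) : glMat g i j = g.ofConv (GLn.X i j) := rfl

theorem glMat_mul (g h : GP k N B) : glMat (g * h) = glMat g * glMat h := isCorep_genMat.ev_mul g h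

theorem glMat_one : glMat (1 : GP k N B) = 1 := isCorep_genMat.ev_one

theorem glMat_cinv_mul (g : GP k N B) : glMat (cinv g) * glMat g = 1 := isCorep_genMat.ev_inv_mul g

theorem glMat_comp {B' : Type*} [CommRing B'] [Algebra k B'] (f : B →ₐ[k] B') (g : GP k N B) :
    glMat (toConv (f.comp g.ofConv)) = (glMat g).map f := rfl

theorem glMat_ext {g h : GP k N B} (e : glMat g = glMat h) : g = h := by
  refine WithConv.ofConv_injective (GLn.algHom_ext (fun i j => congrFun (congrFun e i) j) ?_)
  have hg : ∀ f : GP k N B, f.ofConv GLn.det = (glMat f).det := fun f => by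
    rw [GLn.det_eq, AlgHom.map_det]; rfl
  have h1 : ∀ f : GP k N B, f.ofConv GLn.Dinv * (glMat f).det = 1 := fun f => by
    rw [← hg, ← map_mul, GLn.Dinv_mul_det, map_one]
  exact left_inv_eq_right_inv (h1 g) (by rw [e, mul_comm]; exact h1 h)

/-- The point of an invertible matrix. -/
def glPt (M : Matrix (Fin N) (Fin N) B) (hM : IsUnit M.det) : GP k N B :=
  toConv (GLn.pt N k M (↑hM.unit⁻¹) (by
    exact hM.mul_val_inv))

@[simp] theorem glMat_glPt (M : Matrix (Fin N) (Fin N) B) (hM : IsUnit M.det) : glMat (glPt (k := k) M hM) = M := by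
  ext i j
  exact GLn.pt_X M _ hM.mul_val_inv i j

theorem isUnit_det_glMat (g : GP k N B) : IsUnit (glMat g).det :=
  isUnit_iff_exists_inv.2 ⟨g.ofConv GLn.Dinv, by
    rw [show (glMat g).det = g.ofConv GLn.det by rw [GLn.det_eq, AlgHom.map_det]; rfl, ← map_mul, GLn.det_mul_Dinv, map_one]⟩

/-! ### The torus -/

/-- The coordinate ring of the torus. -/
abbrev Lau (k : Type u) [Field k] (N : ℕ) : Type u := AddMonoidAlgebra k (Fin N → ℤ)

variable (k N) in
theorem isUnit_torus : IsUnit (Matrix.diagonal fun i : Fin N => (AddMonoidAlgebra.single (Pi.single i 1) 1 : Lau k N)).det := by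
  rw [Matrix.det_diagonal]
  exact Finset.prod_induction _ IsUnit (fun _ _ => IsUnit.mul) isUnit_one fun i _ =>
    isUnit_iff_exists_inv.2 ⟨AddMonoidAlgebra.single (-Pi.single i 1) 1, by
      rw [AddMonoidAlgebra.single_mul_single, add_neg_cancel, one_mul, AddMonoidAlgebra.one_def]⟩

variable (k N) in
/-- The generic point of the torus. -/
def torusPt : GP k N (Lau k N) := glPt _ (isUnit_torus k N)

/-- The character of a tuple of units. -/
def tupleChar (D : Fin N → Bˣ) : Multiplicative (Fin N → ℤ) →* B where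
  toFun e := ((∏ i, D i ^ (Multiplicative.toAdd e i) : Bˣ) : B)
  map_one' := by simp
  map_mul' e f := by rw [← Units.val_mul, ← Finset.prod_mul_distrib]; simp [_root_.zpow_add]

/-- The diagonal point. -/
def diagPt (D : Fin N → Bˣ) : GP k N B :=
  toConv ((AddMonoidAlgebra.lift k B (Fin N → ℤ) (tupleChar D)).comp (torusPt k N).ofConv)

theorem glMat_diagPt (D : Fin N → Bˣ) : glMat (diagPt (k := k) D) = Matrix.diagonal fun i => (D i : B) := by
  rw [diagPt, glMat_comp, torusPt, glMat_glPt, Matrix.diagonal_map (map_zero _)]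
  congr 1
  funext i
  rw [AddMonoidAlgebra.lift_single, one_smul]
  show ((∏ l, D l ^ (Pi.single i (1 : ℤ) : Fin N → ℤ) l : Bˣ) : B) = _
  rw [Finset.prod_eq_single i (fun l _ hl => by simp [Pi.single_apply, hl]) (by simp), Pi.single_eq_same, zpow_one]

section Weights

variable {κ : Type w} (E : Matrix κ κ (GLn N k))

/-- The weight space projections. -/
def wt (e : Fin N → ℤ) : Matrix κ κ k := Matrix.of fun a b => ((ev E (torusPt k N)) a b).coeff e

/-- The weights. -/
def wts [Fintype κ] : Finset (Fin N → ℤ) :=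
  Finset.univ.biUnion fun p : κ × κ => ((ev E (torusPt k N)) p.1 p.2).coeff.support

theorem wt_eq_zero [Fintype κ] {e : Fin N → ℤ} (he : e ∉ wts E) : wt E e = 0 := by
  ext a b
  simp only [wts, Finset.mem_biUnion, Finset.mem_univ, true_and, not_exists, Finsupp.mem_support_iff, not_not] at he
  exact he (a, b)

theorem ev_torusPt [Fintype κ] (a b : κ) :
    ev E (torusPt k N) a b = ∑ e ∈ wts E, AddMonoidAlgebra.single e (wt E e a b) := by
  classical
  refine AddMonoidAlgebra.ext (Finsupp.ext fun f => ?_)
  rw [AddMonoidAlgebra.coeff_sum, Finsupp.finsetSum_apply]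
  simp only [AddMonoidAlgebra.coeff_single, Finsupp.single_apply, Finset.sum_ite_eq']
  split_ifs with hf
  · rfl
  · exact congrFun (congrFun (wt_eq_zero E hf) a) b

theorem ev_diagPt [Fintype κ] (D : Fin N → Bˣ) : ev E (diagPt (k := k) D) =
    ∑ e ∈ wts E, ((∏ i, D i ^ e i : Bˣ) : B) • (wt E e).map (algebraMap k B) := by
  ext a b
  rw [diagPt, ev_comp, Matrix.map_apply, ev_torusPt, map_sum, Matrix.sum_apply]
  refine Finset.sum_congr rfl fun e _ => ?_
  rw [AddMonoidAlgebra.lift_single, Matrix.smul_apply, Matrix.map_apply, smul_eq_mul, Algebra.smul_def, mul_comm]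
  rfl

theorem glMat_torusPt : glMat (torusPt k N) =
    Matrix.diagonal fun i : Fin N => (AddMonoidAlgebra.single (Pi.single i 1) 1 : Lau k N) := glMat_glPt _ _

variable {E} [Fintype κ] [DecidableEq κ] (hE : IsCorep k E)
include hE

theorem wt_mul_wt (e f : Fin N → ℤ) : wt E e * wt E f = if e = f then wt E e else 0 := by
  classical
  let L := Fin N → ℤ
  let i1 : L →+ L × L := AddMonoidHom.inl L L
  let i2 : L →+ L × L := AddMonoidHom.inr L L
  let φ1 := AddMonoidAlgebra.mapDomainAlgHom k k i1
  let φ2 := AddMonoidAlgebra.mapDomainAlgHom k k i2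
  let φ3 := AddMonoidAlgebra.mapDomainAlgHom k k (i1 + i2)
  have hmul : (toConv (φ1.comp (torusPt k N).ofConv) : GP k N (AddMonoidAlgebra k (L × L))) *
      toConv (φ2.comp (torusPt k N).ofConv) = toConv (φ3.comp (torusPt k N).ofConv) := by
    refine glMat_ext ?_
    rw [glMat_mul, glMat_comp, glMat_comp, glMat_comp, glMat_torusPt, Matrix.diagonal_map (map_zero _),
      Matrix.diagonal_map (map_zero _), Matrix.diagonal_map (map_zero _), Matrix.diagonal_mul_diagonal]
    congr 1
    funext i
    simp [φ1, φ2, φ3, i1, i2, AddMonoidAlgebra.single_mul_single]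
  have h := congrArg (fun g => ev E g) hmul
  rw [hE.ev_mul, ev_comp, ev_comp, ev_comp] at h
  ext a b
  have h' := congrArg (fun x : AddMonoidAlgebra k (L × L) => x.coeff (e, f)) (congrFun (congrFun h a) b)
  have hs : ∀ (i : L →+ L × L) (x : L) (c : k), AddMonoidAlgebra.mapDomainAlgHom k k i (AddMonoidAlgebra.single x c) =
      AddMonoidAlgebra.single (i x) c := fun i x c => by simp
  simp only [Matrix.mul_apply, Matrix.map_apply, φ1, φ2, φ3] at h'
  rw [Finset.sum_congr rfl fun c _ => by rw [ev_torusPt E a c, ev_torusPt E c b], ev_torusPt E a b] at h'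
  simp only [map_sum, hs, Finset.sum_mul_sum,
    AddMonoidAlgebra.single_mul_single, AddMonoidAlgebra.coeff_sum, AddMonoidAlgebra.coeff_single, Finsupp.finsetSum_apply] at h'
  have hl : ∀ c, ∑ x ∈ wts E, ∑ y ∈ wts E, (Finsupp.single (i1 x + i2 y) (wt E x a c * wt E y c b)) (e, f) =
      wt E e a c * wt E f c b := fun c => by
    rw [Finset.sum_eq_single e]
    · rw [Finset.sum_eq_single f]
      · simp [i1, i2]
      · exact fun y _ hy => by simp [Finsupp.single_apply, i1, i2, hy]
      · exact fun hf => by simp [wt_eq_zero E hf]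
    · exact fun x _ hx => Finset.sum_eq_zero fun y _ => by simp [Finsupp.single_apply, i1, i2, hx]
    · exact fun he => Finset.sum_eq_zero fun y _ => by simp [wt_eq_zero E he]
  rw [Finset.sum_congr rfl fun c _ => hl c] at h'
  rw [Matrix.mul_apply, h']
  by_cases hef : e = f
  · subst hef
    rw [if_pos rfl, Finset.sum_eq_single e]
    · simp [i1, i2]
    · exact fun x _ hx => by simp [Finsupp.single_apply, i1, i2, hx]
    · exact fun he => by simp [wt_eq_zero E he]
  · rw [if_neg hef, Matrix.zero_apply]
    refine Finset.sum_eq_zero fun x _ => ?_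
    have : ((i1 + i2) x) ≠ (e, f) := fun hx => by
      simp [i1, i2] at hx
      exact hef (hx.1.symm.trans hx.2)
    exact Finsupp.single_eq_of_ne (Ne.symm this)

theorem sum_wt : ∑ e ∈ wts E, wt E e = 1 := by
  have h := ev_diagPt (B := k) E (1 : Fin N → kˣ)
  have h1 : (diagPt (k := k) (1 : Fin N → kˣ) : GP k N k) = 1 := glMat_ext (by
    rw [glMat_diagPt, glMat_one]
    simp)
  rw [h1, hE.ev_one] at h
  rw [h]
  exact Finset.sum_congr rfl fun e _ => by ext a b; simp

end Weights

end

end Groth.Agent.H20HM
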