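import Groth.Agent.H20HM.Points
import Mathlib.Algebra.Polynomial.Laurent
import Mathlib.Algebra.TrivSqZeroExt.Basic
import Mathlib.RingTheory.Nilpotent.Basic

/-!
# The grading of a corepresentation by a one-parameter subgroup
-/

set_option autoImplicit false

universe u v w

open TensorProduct HopfRep WithConv Matrix CoordGrp
open scoped Polynomial

namespace Groth.Agent.H20HM

noncomputable section

variable {k : Type u} [Field k] {N : ℕ} {B : Type v} [CommRing B] [Algebra k B]

/-- Pairing of weights. -/
def dotp (r e : Fin N → ℤ) : ℤ := ∑ i, r i * e i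

/-- The point of the one-parameter subgroup with weights `r`. -/
def lamPt (χ : Multiplicative ℤ →* Bˣ) (r : Fin N → ℤ) : GP k N B := diagPt fun a => χ (Multiplicative.ofAdd (r a))

theorem glMat_lamPt (χ : Multiplicative ℤ →* Bˣ) (r : Fin N → ℤ) :
    glMat (lamPt (k := k) χ r) = Matrix.diagonal fun a => (χ (Multiplicative.ofAdd (r a)) : B) := glMat_diagPt _

theorem lamPt_mul_lamPt_neg (χ : Multiplicative ℤ →* Bˣ) (r : Fin N → ℤ) :
    lamPt (k := k) χ r * lamPt χ (-r) = 1 := by
  refine glMat_ext ?_
  rw [glMat_mul, glMat_lamPt, glMat_lamPt, Matrix.diagonal_mul_diagonal, glMat_one, ← Matrix.diagonal_one]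
  congr 1
  funext a
  rw [← Units.val_mul, ← map_mul, ← ofAdd_add, Pi.neg_apply, add_neg_cancel, ofAdd_zero, map_one, Units.val_one]

section

variable {κ : Type w} [Fintype κ] (E : Matrix κ κ (GLn N k)) (r : Fin N → ℤ)

/-- The graded pieces. -/
def gr (j : ℤ) : Matrix κ κ k := ∑ e ∈ (wts E).filter (fun e => dotp r e = j), wt E e

/-- The degrees. -/
def grs : Finset ℤ := (wts E).image (dotp r)

theorem gr_eq_zero {j : ℤ} (hj : j ∉ grs E r) : gr E r j = 0 := by
  rw [gr, Finset.filter_false_of_mem, Finset.sum_empty]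
  exact fun e he h => hj (Finset.mem_image.2 ⟨e, he, h⟩)

theorem ev_lamPt (χ : Multiplicative ℤ →* Bˣ) : ev E (lamPt (k := k) χ r) =
    ∑ j ∈ grs E r, (χ (Multiplicative.ofAdd j) : B) • (gr E r j).map (algebraMap k B) := by
  classical
  rw [lamPt, ev_diagPt]
  have h : ∀ e : Fin N → ℤ, ∏ i, χ (Multiplicative.ofAdd (r i)) ^ e i = χ (Multiplicative.ofAdd (dotp r e)) := fun e => by
    rw [dotp, ofAdd_sum, map_prod]
    exact Finset.prod_congr rfl fun i _ => by rw [← map_zpow, ← ofAdd_zsmul, smul_eq_mul, mul_comm]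
  simp only [h]
  rw [← Finset.sum_fiberwise_of_maps_to (g := dotp r) (t := grs E r) fun e he => Finset.mem_image.2 ⟨e, he, rfl⟩]
  refine Finset.sum_congr rfl fun j _ => ?_
  ext a b
  simp only [gr, Matrix.sum_apply, Matrix.smul_apply, Matrix.map_apply, map_sum, Finset.smul_sum]
  exact Finset.sum_congr rfl fun e he => by rw [(Finset.mem_filter.1 he).2]

variable [DecidableEq κ] {E} (hE : IsCorep k E)
include hE

theorem gr_mul_gr (i j : ℤ) : gr E r i * gr E r j = if i = j then gr E r i else 0 := by
  classical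
  simp only [gr, Finset.sum_mul_sum, wt_mul_wt hE, Finset.sum_ite_eq, Finset.mem_filter]
  by_cases h : i = j
  · subst h
    rw [if_pos rfl]
    exact Finset.sum_congr rfl fun e he => if_pos (Finset.mem_filter.1 he)
  · rw [if_neg h]
    refine Finset.sum_eq_zero fun e he => if_neg fun h' => h ?_
    rw [← (Finset.mem_filter.1 he).2, h'.2]

theorem sum_gr : ∑ j ∈ grs E r, gr E r j = 1 := by
  rw [← sum_wt hE]
  exact Finset.sum_fiberwise_of_maps_to (fun e he => Finset.mem_image.2 ⟨e, he, rfl⟩) _

theorem eq_sum_vecMul_gr (x : κ → k) : x = ∑ j ∈ grs E r, x ᵥ* gr E r j := by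
  rw [← Matrix.vecMul_sum, sum_gr r hE, Matrix.vecMul_one]

end

/-! ### Laurent polynomials -/

variable (B) in
/-- The tautological character. -/
def tChar : Multiplicative ℤ →* (LaurentPolynomial B)ˣ := (AddMonoidAlgebra.of B ℤ).toHomUnits

theorem tChar_val (j : ℤ) : (tChar B (Multiplicative.ofAdd j) : LaurentPolynomial B) = LaurentPolynomial.T j := rfl

theorem coeff_T_smul (j : ℤ) (c : B) (m : ℤ) :
    (LaurentPolynomial.T j * AddMonoidAlgebra.single 0 c : LaurentPolynomial B).coeff m = if j = m then c else 0 := by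
  rw [LaurentPolynomial.T, AddMonoidAlgebra.single_mul_single, add_zero, one_mul, AddMonoidAlgebra.coeff_single,
    Finsupp.single_apply]

/-! ### Unipotent elements of positive weight -/

/-- The matrix has weight `n`. -/
def HasWeight (r : Fin N → ℤ) (n : ℤ) (X : Matrix (Fin N) (Fin N) k) : Prop := ∀ a b, X a b ≠ 0 → r b = r a + n

theorem isNilpotent_of_hasWeight {r : Fin N → ℤ} {n : ℤ} (hn : 0 < n) {X : Matrix (Fin N) (Fin N) k}
    (hX : HasWeight r n X) : IsNilpotent X := by
  classical
  have hpow : ∀ m : ℕ, HasWeight r (m * n) (X ^ m) := fun m => by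
    induction m with
    | zero =>
      intro a b h
      rw [pow_zero, Matrix.one_apply] at h
      split_ifs at h with hab
      · simp [hab]
      · exact absurd rfl h
    | succ m ih =>
      intro a b h
      rw [pow_succ, Matrix.mul_apply] at h
      obtain ⟨c, -, hc⟩ := Finset.exists_ne_zero_of_sum_ne_zero h
      rw [hX c b (right_ne_zero_of_mul hc), ih a c (left_ne_zero_of_mul hc)]
      push_cast
      ring
  obtain ⟨R, hR⟩ : ∃ R : ℕ, ∀ a b, r b - r a < R := ⟨(∑ a, ∑ b, (r b - r a).natAbs) + 1, fun a b => by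
    have h1 : (r b - r a).natAbs ≤ ∑ a, ∑ b, (r b - r a).natAbs :=
      le_trans (Finset.single_le_sum (f := fun b => (r b - r a).natAbs) (fun _ _ => Nat.zero_le _) (Finset.mem_univ b))
        (Finset.single_le_sum (f := fun a => ∑ b, (r b - r a).natAbs) (fun _ _ => Nat.zero_le _) (Finset.mem_univ a))
    have h2 := Int.le_natAbs (a := r b - r a)
    omega⟩
  refine ⟨R, ?_⟩
  ext a b
  by_contra h
  have h1 := hpow R a b h
  have h2 := hR a b
  have h3 : (R : ℤ) ≤ R * n := le_mul_of_one_le_right (Int.natCast_nonneg R) hn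
  omega

theorem isUnit_det_one_add {r : Fin N → ℤ} {n : ℤ} (hn : 0 < n) {X : Matrix (Fin N) (Fin N) k} (hX : HasWeight r n X) :
    IsUnit ((1 : Matrix (Fin N) (Fin N) k[X]) + (Polynomial.X : k[X]) • X.map (Polynomial.C : k →+* k[X])).det := by
  rw [← Matrix.isUnit_iff_isUnit_det]
  refine IsNilpotent.isUnit_one_add ?_
  exact ((isNilpotent_of_hasWeight hn hX).map (Polynomial.C : k →+* k[X]).mapMatrix).smul Polynomial.X

section Unipotent

variable {r : Fin N → ℤ} {n : ℤ} (hn : 0 < n) {X : Matrix (Fin N) (Fin N) k} (hX : HasWeight r n X)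

/-- The one-parameter additive subgroup `s ↦ 1 + sX` at first order. -/
def uniPt : GP k N k[X] := glPt _ (isUnit_det_one_add hn hX)

/-- `1 + X`. -/
def uniPt₁ : GP k N k := toConv ((Polynomial.aeval (1 : k)).comp (uniPt hn hX).ofConv)

/-- The derivative of the subgroup. -/
def uniDer : GLn N k →ₗ[k] k := Polynomial.lcoeff k 1 ∘ₗ (uniPt hn hX).ofConv.toLinearMap

theorem eval_zero_uniPt (f : GLn N k) : ((uniPt hn hX).ofConv f).coeff 0 = (1 : GP k N k).ofConv f := by
  have h : toConv ((Polynomial.aeval (0 : k)).comp (uniPt hn hX).ofConv) = 1 := glMat_ext (by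
    rw [glMat_comp, uniPt, glMat_glPt, glMat_one]
    ext a b
    simp [Matrix.one_apply, apply_ite (Polynomial.eval (0 : k))])
  rw [← h, Polynomial.coeff_zero_eq_aeval_zero]
  rfl

theorem uniDer_mul (a b : GLn N k) : uniDer hn hX (a * b) =
    (1 : GP k N k).ofConv a * uniDer hn hX b + (1 : GP k N k).ofConv b * uniDer hn hX a := by
  show ((uniPt hn hX).ofConv (a * b)).coeff 1 = _
  rw [map_mul, Polynomial.mul_coeff_one, eval_zero_uniPt, eval_zero_uniPt]
  show _ + _ = _ * ((uniPt hn hX).ofConv b).coeff 1 + _ * ((uniPt hn hX).ofConv a).coeff 1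
  ring

theorem uniDer_X (a b : Fin N) : uniDer hn hX (GLn.X a b) = X a b := by
  show (glMat (uniPt hn hX) a b).coeff 1 = _
  rw [uniPt, glMat_glPt]
  simp [Matrix.one_apply, apply_ite (fun p : k[X] => p.coeff 1), Polynomial.coeff_one]

variable {κ : Type w} [Fintype κ] [DecidableEq κ] {E : Matrix κ κ (GLn N k)} (hE : IsCorep k E)
include hE

theorem coeff_uniPt_mul_gr (l : ℕ) (m : ℤ) :
    (ev E (uniPt hn hX)).map (fun p => p.coeff l) * gr E r m =
      gr E r (m - l * n) * (ev E (uniPt hn hX)).map (fun p => p.coeff l) := by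
  classical
  let ι : k[X] →ₐ[k] (LaurentPolynomial k[X]) := IsScalarTower.toAlgHom k k[X] (LaurentPolynomial k[X])
  let θ : k[X] →ₐ[k] (LaurentPolynomial k[X]) := Polynomial.aeval (AddMonoidAlgebra.single n Polynomial.X : (LaurentPolynomial k[X]))
  have hθ : ∀ (p : k[X]) (q : ℤ) (l : ℕ), ((θ p).coeff q).coeff l = if q = l * n then p.coeff l else 0 := fun p q l => by
    induction p using Polynomial.induction_on' with
    | add p p' hp hp' =>
      rw [map_add θ, AddMonoidAlgebra.coeff_add, Finsupp.add_apply, Polynomial.coeff_add, hp, hp']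
      split_ifs <;> simp
    | monomial i c =>
      rw [show θ (Polynomial.monomial i c) = AddMonoidAlgebra.single ((i : ℤ) * n) (Polynomial.C c * Polynomial.X ^ i) by
        rw [Polynomial.aeval_monomial, AddMonoidAlgebra.single_pow, nsmul_eq_mul,
          IsScalarTower.algebraMap_apply k k[X] (LaurentPolynomial k[X])]
        show AddMonoidAlgebra.single 0 (Polynomial.C c) * _ = _
        rw [AddMonoidAlgebra.single_mul_single, zero_add], AddMonoidAlgebra.coeff_single, Finsupp.single_apply,
        Polynomial.coeff_monomial]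
      by_cases hi : i = l
      · subst hi
        by_cases hq : q = i * n
        · simp [hq]
        · rw [if_neg (Ne.symm hq), if_neg hq, Polynomial.coeff_zero]
      · rw [if_neg hi]
        split_ifs <;> simp [Ne.symm hi]
  have hpt : toConv (ι.comp (uniPt hn hX).ofConv) * lamPt (tChar k[X]) r =
      lamPt (tChar k[X]) r * toConv (θ.comp (uniPt hn hX).ofConv) := by
    refine glMat_ext ?_
    rw [glMat_mul, glMat_mul, glMat_comp, glMat_comp, glMat_lamPt, uniPt, glMat_glPt]
    ext1 a b
    simp only [Matrix.mul_diagonal, Matrix.diagonal_mul, Matrix.map_apply, Matrix.add_apply, Matrix.smul_apply,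
      Matrix.one_apply, tChar_val, map_add, smul_eq_mul, map_mul, apply_ite ι, apply_ite θ, map_one, map_zero]
    by_cases hab : X a b = 0
    · by_cases h : a = b
      · subst h; simp [hab]
      · simp [hab, h]
    · rw [hX a b hab]
      have h : a ≠ b := fun h => by subst h; have := hX a a hab; omega
      simp only [if_neg h, zero_add, θ, ι, Polynomial.aeval_X, Polynomial.aeval_C,
        IsScalarTower.algebraMap_apply k k[X] (LaurentPolynomial k[X]), IsScalarTower.coe_toAlgHom', Polynomial.algebraMap_apply, RingHom.id_apply,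
        Algebra.algebraMap_self]
      show AddMonoidAlgebra.single 0 Polynomial.X * AddMonoidAlgebra.single 0 (Polynomial.C (X a b)) * AddMonoidAlgebra.single _ 1 =
        AddMonoidAlgebra.single _ 1 * (AddMonoidAlgebra.single n Polynomial.X * AddMonoidAlgebra.single 0 (Polynomial.C (X a b)))
      simp only [toAdd_ofAdd, AddMonoidAlgebra.single_mul_single, zero_add, add_zero, one_mul, mul_one]
  have h := congrArg (fun g => ev E g) hpt
  rw [hE.ev_mul, hE.ev_mul, ev_comp, ev_comp, ev_lamPt, Finset.mul_sum, Finset.sum_mul] at h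
  ext1 a b
  have h' := congrArg (fun x : (LaurentPolynomial k[X]) => (x.coeff m).coeff l) (congrFun (congrFun h a) b)
  simp only [Matrix.sum_apply, Matrix.mul_apply, Matrix.smul_apply, Matrix.map_apply, smul_eq_mul,
    AddMonoidAlgebra.coeff_sum, Finsupp.finsetSum_apply, Polynomial.finsetSum_coeff] at h'
  have hL : ∀ j c, ((ι (ev E (uniPt hn hX) a c) * ((tChar k[X] (Multiplicative.ofAdd j) : (LaurentPolynomial k[X])) *
      algebraMap k (LaurentPolynomial k[X]) (gr E r j c b))).coeff m).coeff l =
      if j = m then (ev E (uniPt hn hX) a c).coeff l * gr E r j c b else 0 := fun j c => by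
    rw [show ι (ev E (uniPt hn hX) a c) = AddMonoidAlgebra.single 0 (ev E (uniPt hn hX) a c) from rfl,
      IsScalarTower.algebraMap_apply k k[X] (LaurentPolynomial k[X]), show algebraMap k[X] (LaurentPolynomial k[X]) (algebraMap k k[X] (gr E r j c b)) =
        AddMonoidAlgebra.single 0 (Polynomial.C (gr E r j c b)) from rfl, tChar_val, LaurentPolynomial.T,
      AddMonoidAlgebra.single_mul_single, AddMonoidAlgebra.single_mul_single, AddMonoidAlgebra.coeff_single,
      Finsupp.single_apply]
    simp only [add_zero, zero_add, one_mul]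
    split_ifs with hj <;> simp [Polynomial.coeff_mul_C]
  have hR : ∀ j c, ((((tChar k[X] (Multiplicative.ofAdd j) : (LaurentPolynomial k[X])) * algebraMap k (LaurentPolynomial k[X]) (gr E r j a c)) *
      θ (ev E (uniPt hn hX) c b)).coeff m).coeff l =
      if j = m - l * n then gr E r j a c * (ev E (uniPt hn hX) c b).coeff l else 0 := fun j c => by
    rw [IsScalarTower.algebraMap_apply k k[X] (LaurentPolynomial k[X]), show algebraMap k[X] (LaurentPolynomial k[X]) (algebraMap k k[X] (gr E r j a c)) =
        AddMonoidAlgebra.single 0 (Polynomial.C (gr E r j a c)) from rfl, tChar_val, LaurentPolynomial.T,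
      AddMonoidAlgebra.single_mul_single, add_zero, one_mul, AddMonoidAlgebra.coeff_single_mul_eq_mul_coeff (m₂ := m - j)
        (fun q _ => by omega), Polynomial.coeff_C_mul, hθ]
    by_cases hq : m - j = l * n
    · rw [if_pos hq, if_pos (by omega)]
    · rw [if_neg hq, if_neg (by omega), mul_zero]
  simp only [hL, hR] at h'
  show ∑ c, _ * _ = ∑ c, _ * _
  refine Eq.trans ?_ (h'.trans ?_)
  · rw [Finset.sum_comm]
    refine Finset.sum_congr rfl fun c _ => ?_
    rw [Finset.sum_ite_eq']
    split_ifs with hm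
    · rfl
    · rw [gr_eq_zero E r hm, Matrix.zero_apply, mul_zero]
  · rw [Finset.sum_comm]
    refine Finset.sum_congr rfl fun c _ => ?_
    rw [Finset.sum_ite_eq']
    split_ifs with hm
    · rfl
    · rw [gr_eq_zero E r hm, Matrix.zero_apply, zero_mul]

/-- Moving by `1 + X` changes the piece of degree `n` at first order and nothing below. -/
theorem vecMul_uniPt₁ (x : κ → k) (hx : ∀ j < 0, x ᵥ* gr E r j = 0) (j : ℤ) (hj : j ≤ n) :
    (x ᵥ* ev E (uniPt₁ hn hX)) ᵥ* gr E r j =
      x ᵥ* gr E r j + if j = n then (x ᵥ* gr E r 0) ᵥ* E.map (uniDer hn hX) else 0 := by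
  classical
  have h0 : (ev E (uniPt hn hX)).map (fun p => p.coeff 0) = 1 := by
    rw [← hE.ev_one (B := k)]
    exact Matrix.ext fun a b => eval_zero_uniPt hn hX _
  let P : κ → k[X] := (fun a => Polynomial.C (x a)) ᵥ* ev E (uniPt hn hX) ᵥ* (gr E r j).map Polynomial.C
  have hP : ∀ b l, (P b).coeff l = (x ᵥ* gr E r (j - l * n) ᵥ* (ev E (uniPt hn hX)).map (fun p => p.coeff l)) b :=
    fun b l => by
      rw [Matrix.vecMul_vecMul, ← coeff_uniPt_mul_gr hn hX hE, ← Matrix.vecMul_vecMul]
      simp only [P, Matrix.vecMul, dotProduct, Matrix.map_apply, Matrix.mul_apply, Polynomial.finsetSum_coeff,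
        Polynomial.coeff_C_mul, Polynomial.coeff_mul_C, Finset.mul_sum, Finset.sum_mul]
  have hev : (x ᵥ* ev E (uniPt₁ hn hX)) ᵥ* gr E r j = fun b => (P b).eval 1 := by
    funext b
    simp only [P, uniPt₁, Matrix.vecMul, dotProduct, Matrix.map_apply, Polynomial.eval_finsetSum, Polynomial.eval_mul,
      Polynomial.eval_C, ev_apply, WithConv.ofConv_toConv, AlgHom.comp_apply, ← Polynomial.aeval_def,
      Polynomial.coe_aeval_eq_eval]
  rw [hev]
  funext b
  have hPb : P b = Polynomial.C ((x ᵥ* gr E r j) b) +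
      Polynomial.C ((if j = n then (x ᵥ* gr E r 0) ᵥ* E.map (uniDer hn hX) else 0) b) * Polynomial.X := by
    refine Polynomial.ext fun l => ?_
    rw [hP]
    match l with
    | 0 => simp [h0]
    | 1 =>
      rw [Nat.cast_one, one_mul]
      rcases hj.lt_or_eq with hlt | heq
      · rw [hx (j - n) (by omega), Matrix.zero_vecMul, if_neg hlt.ne]
        simp
      · rw [heq, sub_self, if_pos rfl, Polynomial.coeff_add, Polynomial.coeff_C_ne_zero one_ne_zero,
          Polynomial.coeff_C_mul_X, if_pos rfl, zero_add]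
        rfl
    | l + 2 =>
      have : n * 2 ≤ n * ((l + 2 : ℕ) : ℤ) := mul_le_mul_of_nonneg_left (by push_cast; omega) hn.le
      rw [hx (j - ((l + 2 : ℕ) : ℤ) * n) (by linarith [mul_comm n ((l + 2 : ℕ) : ℤ)]), Matrix.zero_vecMul]
      simp
  rw [hPb]
  simp

end Unipotent

/-! ### Derivations at the identity -/

section Derivation

variable {δ : GLn N k →ₗ[k] k}
  (hδ : ∀ a b, δ (a * b) = (1 : GP k N k).ofConv a * δ b + (1 : GP k N k).ofConv b * δ a)

/-- A derivation at the identity as a point with values in dual numbers. -/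
def dualPt : GP k N (TrivSqZeroExt k k) :=
  toConv (AlgHom.ofLinearMap
    ((TrivSqZeroExt.inlAlgHom k k k).toLinearMap ∘ₗ (1 : GP k N k).ofConv.toLinearMap + (TrivSqZeroExt.inrHom k k).restrictScalars k ∘ₗ δ)
    (by
      have h0 : δ 1 = 0 := by
        have := hδ 1 1
        rw [mul_one, map_one (1 : GP k N k).ofConv, one_mul] at this
        linear_combination -this
      ext
      · simp [show TrivSqZeroExt.fst (TrivSqZeroExt.inrHom k k (δ 1)) = 0 from rfl]
      · simp [h0])
    (fun a b => by
      ext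
      · simp
      · simp [hδ]; ring))

include hδ in
/-- Derivations at the identity are determined by their values on the entries. -/
theorem der_ext {δ' : GLn N k →ₗ[k] k}
    (hδ' : ∀ a b, δ' (a * b) = (1 : GP k N k).ofConv a * δ' b + (1 : GP k N k).ofConv b * δ' a)
    (h : ∀ i j, δ (GLn.X i j) = δ' (GLn.X i j)) (f : GLn N k) : δ f = δ' f := by
  have heq : dualPt hδ = dualPt hδ' := glMat_ext (Matrix.ext fun i j => by
    rw [glMat_apply, glMat_apply]
    simp [dualPt, h])
  have := congrArg (fun g : GP k N (TrivSqZeroExt k k) => (g.ofConv f).snd) heq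
  simpa [dualPt] using this

include hδ in
/-- Extraction of the weight `n` part of a derivation. -/
theorem exists_weight_part (r : Fin N → ℤ) (n : ℤ) (hn : 0 < n) {κ : Type w} [Fintype κ] [DecidableEq κ]
    {E : Matrix κ κ (GLn N k)} (hE : IsCorep k E) :
    ∃ (X : Matrix (Fin N) (Fin N) k) (hX : HasWeight r n X),
      gr E r 0 * E.map (uniDer hn hX) = gr E r 0 * E.map δ * gr E r n := by
  classical
  let ψ : TrivSqZeroExt k k →ₐ[k] TrivSqZeroExt (LaurentPolynomial k) (LaurentPolynomial k) := AlgHom.ofLinearMap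
    ((TrivSqZeroExt.inlAlgHom k (LaurentPolynomial k) (LaurentPolynomial k)).toLinearMap ∘ₗ
        Algebra.linearMap k (LaurentPolynomial k) ∘ₗ (TrivSqZeroExt.fstHom k k k).toLinearMap +
      (TrivSqZeroExt.inrHom (LaurentPolynomial k) (LaurentPolynomial k)).restrictScalars k ∘ₗ
        Algebra.linearMap k (LaurentPolynomial k) ∘ₗ (TrivSqZeroExt.sndHom k k).restrictScalars k)
    (by ext <;> simp)
    (fun x y => by ext <;> simp [mul_comm])
  let q : GP k N (TrivSqZeroExt (LaurentPolynomial k) (LaurentPolynomial k)) := toConv (ψ.comp (dualPt hδ).ofConv)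
  let lam : (Fin N → ℤ) → GP k N (TrivSqZeroExt (LaurentPolynomial k) (LaurentPolynomial k)) := fun r =>
    toConv ((TrivSqZeroExt.inlAlgHom k (LaurentPolynomial k) (LaurentPolynomial k)).comp (lamPt (k := k) (tChar k) r).ofConv)
  let q' : GP k N (TrivSqZeroExt (LaurentPolynomial k) (LaurentPolynomial k)) := lam (-r) * q * lam r
  have hψfst : ∀ x, (ψ x).fst = algebraMap k (LaurentPolynomial k) x.fst := fun x => by simp [ψ]
  have hψsnd : ∀ x, (ψ x).snd = algebraMap k (LaurentPolynomial k) x.snd := fun x => by simp [ψ]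
  have hlam : lam r * lam (-r) = 1 := by
    refine glMat_ext ?_
    rw [glMat_mul, glMat_comp, glMat_comp, ← Matrix.map_mul, ← glMat_mul, lamPt_mul_lamPt_neg, glMat_one,
      Matrix.map_one _ (map_zero _) (map_one _), glMat_one]
  have hfst : ∀ f, (q'.ofConv f).fst = algebraMap k (LaurentPolynomial k) ((1 : GP k N k).ofConv f) := fun f => by
    have h : toConv ((TrivSqZeroExt.fstHom k (LaurentPolynomial k) (LaurentPolynomial k)).comp q'.ofConv) =
        toConv ((Algebra.ofId k (LaurentPolynomial k)).comp (1 : GP k N k).ofConv) := by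
      refine glMat_ext ?_
      rw [glMat_comp, glMat_comp, glMat_one, Matrix.map_one _ (map_zero _) (map_one _), glMat_mul, glMat_mul,
        Matrix.map_mul, Matrix.map_mul, glMat_comp, glMat_comp, glMat_comp, Matrix.map_map, Matrix.map_map, Matrix.map_map]
      have hq : (glMat (dualPt hδ)).map (⇑(TrivSqZeroExt.fstHom k (LaurentPolynomial k) (LaurentPolynomial k)) ∘ ⇑ψ) = 1 := by
        ext i j
        by_cases hij : i = j <;> simp [hψfst, dualPt, glMat_apply, GLn.counit_X, Matrix.one_apply, hij]
      have hid : (⇑(TrivSqZeroExt.fstHom k (LaurentPolynomial k) (LaurentPolynomial k)) ∘ ⇑(TrivSqZeroExt.inlAlgHom k (LaurentPolynomial k) (LaurentPolynomial k))) = id := funext fun x => rfl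
      rw [hq, Matrix.mul_one, hid, Matrix.map_id, Matrix.map_id, ← glMat_mul]
      have h2 := lamPt_mul_lamPt_neg (k := k) (tChar k) (-r : Fin N → ℤ)
      rw [neg_neg] at h2
      rw [h2, glMat_one]
    exact congrArg (fun g : GP k N (LaurentPolynomial k) => g.ofConv f) h
  let δn : GLn N k →ₗ[k] k :=
    { toFun := fun f => ((q'.ofConv f).snd : (LaurentPolynomial k)).coeff n
      map_add' := fun a b => by simp
      map_smul' := fun c a => by simp }
  have hδn : ∀ a b, δn (a * b) = (1 : GP k N k).ofConv a * δn b + (1 : GP k N k).ofConv b * δn a := fun a b => by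
    show ((q'.ofConv (a * b)).snd : (LaurentPolynomial k)).coeff n = _
    have hc : ∀ (c : k) (p : LaurentPolynomial k), (algebraMap k (LaurentPolynomial k) c * p).coeff n = c * p.coeff n :=
      fun c p => by rw [← Algebra.smul_def]; rfl
    rw [map_mul, TrivSqZeroExt.snd_mul, hfst, hfst, smul_eq_mul, op_smul_eq_mul, AddMonoidAlgebra.coeff_add,
      Finsupp.add_apply, hc, mul_comm (TrivSqZeroExt.snd _) (algebraMap k (LaurentPolynomial k) _), hc]
    rfl
  refine ⟨fun a b => δn (GLn.X a b), fun a b hab => ?_, ?_⟩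
  · by_contra hne
    refine hab ?_
    show ((glMat q' a b).snd : (LaurentPolynomial k)).coeff n = 0
    rw [glMat_mul, glMat_mul, glMat_comp, glMat_comp, glMat_comp, glMat_lamPt, glMat_lamPt,
      Matrix.diagonal_map (map_zero _), Matrix.diagonal_map (map_zero _), Matrix.mul_diagonal, Matrix.diagonal_mul,
      Matrix.map_apply]
    rw [TrivSqZeroExt.snd_mul, TrivSqZeroExt.snd_mul]
    simp only [TrivSqZeroExt.inlAlgHom_apply, TrivSqZeroExt.snd_inl, TrivSqZeroExt.fst_inl, TrivSqZeroExt.fst_mul,
      smul_zero, zero_add, add_zero, smul_eq_mul, op_smul_eq_mul, zero_mul, hψsnd, tChar_val, LaurentPolynomial.T]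
    rw [mul_zero, zero_add]
    show (AddMonoidAlgebra.single ((-r) a) 1 * AddMonoidAlgebra.single 0 _ * AddMonoidAlgebra.single (r b) 1 :
      LaurentPolynomial k).coeff n = 0
    rw [AddMonoidAlgebra.single_mul_single, AddMonoidAlgebra.single_mul_single, AddMonoidAlgebra.coeff_single,
      Finsupp.single_apply, if_neg]
    intro h
    rw [Pi.neg_apply] at h
    omega
  · set X : Matrix (Fin N) (Fin N) k := fun a b => δn (GLn.X a b)
    have hd : ∀ hX : HasWeight r n X, E.map (uniDer hn hX) = E.map δn := fun hX =>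
      Matrix.ext fun a b => der_ext (uniDer_mul hn hX) hδn (fun i j => uniDer_X hn hX i j) _
    rw [hd]
    have hq : lam r * q' = q * lam r := by
      have aux : ∀ x y z : GP k N (TrivSqZeroExt (LaurentPolynomial k) (LaurentPolynomial k)),
          x * y = 1 → x * (y * z * x) = z * x := fun x y z h =>
            (_root_.mul_assoc x (y * z) x).symm.trans (congrArg (· * x)
              (((_root_.mul_assoc x y z).symm.trans (congrArg (· * z) h)).trans (_root_.one_mul z)))
      exact aux _ _ _ hlam
    have h := congrArg (fun g => (ev E g).map TrivSqZeroExt.snd) hq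
    simp only [hE.ev_mul] at h
    have hlamE : ∀ a b, ev E (lam r) a b =
        TrivSqZeroExt.inl (∑ j ∈ grs E r, AddMonoidAlgebra.single j (gr E r j a b) : (LaurentPolynomial k)) := fun a b => by
      show TrivSqZeroExt.inl (ev E (lamPt (k := k) (tChar k) r) a b) = _
      rw [ev_lamPt, Matrix.sum_apply]
      congr 1
      refine Finset.sum_congr rfl fun j _ => ?_
      rw [Matrix.smul_apply, Matrix.map_apply, tChar_val, smul_eq_mul, LaurentPolynomial.T]
      show AddMonoidAlgebra.single j 1 * AddMonoidAlgebra.single 0 _ = _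
      rw [AddMonoidAlgebra.single_mul_single, add_zero, one_mul]
      rfl
    have key : ∀ a b, ∑ j ∈ grs E r, ∑ c, gr E r j a c * ((q'.ofConv (E c b)).snd : (LaurentPolynomial k)).coeff (n - j) =
        ∑ c, δ (E a c) * gr E r n c b := fun a b => by
      have h' := congrArg (fun x : (LaurentPolynomial k) => x.coeff n) (congrFun (congrFun h a) b)
      simp only [Matrix.map_apply, Matrix.mul_apply, TrivSqZeroExt.snd_sum, TrivSqZeroExt.snd_mul, hlamE,
        AddMonoidAlgebra.coeff_sum, Finsupp.finsetSum_apply] at h'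
      rw [Finset.sum_comm]
      refine Eq.trans ?_ (h'.trans ?_)
      · refine Finset.sum_congr rfl fun c _ => ?_
        simp only [ev_apply, TrivSqZeroExt.fst_inl, TrivSqZeroExt.snd_inl, smul_eq_mul, MulOpposite.smul_eq_mul_unop,
          MulOpposite.unop_op, zero_mul, add_zero, Finset.sum_mul, AddMonoidAlgebra.coeff_sum, Finsupp.finsetSum_apply]
        refine Finset.sum_congr rfl fun j _ => ?_
        rw [AddMonoidAlgebra.coeff_single_mul_eq_mul_coeff (m₂ := n - j) (fun x _ => by omega)]
      · refine Finset.sum_congr rfl fun c _ => ?_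
        have hqE : (ev E q a c).fst = algebraMap k (LaurentPolynomial k) ((1 : GP k N k).ofConv (E a c)) ∧
            (ev E q a c).snd = algebraMap k (LaurentPolynomial k) (δ (E a c)) := by
          constructor
          · show (ψ ((dualPt hδ).ofConv (E a c))).fst = _
            rw [hψfst]; simp [dualPt]
          · show (ψ ((dualPt hδ).ofConv (E a c))).snd = _
            rw [hψsnd]; simp [dualPt]
        simp only [hqE, TrivSqZeroExt.fst_inl, TrivSqZeroExt.snd_inl, smul_eq_mul, MulOpposite.smul_eq_mul_unop,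
          MulOpposite.unop_op, mul_zero, zero_add, Finset.mul_sum, AddMonoidAlgebra.coeff_sum, Finsupp.finsetSum_apply]
        rw [Finset.sum_eq_single n]
        · show (AddMonoidAlgebra.single 0 _ * AddMonoidAlgebra.single n _ : (LaurentPolynomial k)).coeff n = _
          rw [AddMonoidAlgebra.single_mul_single, zero_add, AddMonoidAlgebra.coeff_single, Finsupp.single_eq_same]
          rfl
        · intro j _ hj
          show (AddMonoidAlgebra.single 0 _ * AddMonoidAlgebra.single j _ : (LaurentPolynomial k)).coeff n = _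
          rw [AddMonoidAlgebra.single_mul_single, zero_add, AddMonoidAlgebra.coeff_single, Finsupp.single_eq_of_ne (Ne.symm hj)]
        · intro hnmem
          simp [gr_eq_zero E r hnmem]
    let M : ℤ → Matrix κ κ k := fun i => Matrix.of fun c b => ((q'.ofConv (E c b)).snd : (LaurentPolynomial k)).coeff i
    have key' : ∑ j ∈ grs E r, gr E r j * M (n - j) = E.map δ * gr E r n := by
      ext a b
      simp only [Matrix.sum_apply, Matrix.mul_apply, M, Matrix.of_apply, Matrix.map_apply]
      exact key a b
    rw [Matrix.mul_assoc, ← key', Finset.mul_sum]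
    simp only [← Matrix.mul_assoc, gr_mul_gr r hE]
    rw [Finset.sum_eq_single 0]
    · simp [M]
      rfl
    · intro j _ hj
      rw [if_neg (Ne.symm hj), Matrix.zero_mul]
    · intro h0
      simp [gr_eq_zero E r h0]

end Derivation

end

end Groth.Agent.H20HM
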