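import Groth.Agent.H20HM.Setup
import Groth.Agent.H20HM.Grading
import Groth.Agent.S11796
import Groth.Agent.S11804
import Groth.Agent.H20Forms.Place

/-!
# Closedness of the orbit of a closed stable set, and the Iwahori step
-/

set_option autoImplicit false

universe u w w'

open TensorProduct HopfRep WithConv Matrix CoordGrp

namespace Groth.Agent.H20HM

noncomputable section

variable {k : Type u} [Field k]

/-- Closure by polynomials. -/
def InClos {σ : Type w} (S : Set (σ → k)) (z : σ → k) : Prop :=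
  ∀ f : MvPolynomial σ k, (∀ c ∈ S, MvPolynomial.eval c f = 0) → MvPolynomial.eval z f = 0

theorem InClos.map {σ : Type w} {τ : Type w'} [Fintype σ] {S : Set (σ → k)} {T : Set (τ → k)} {z : σ → k}
    (h : InClos S z) (M : Matrix σ τ k) (hM : ∀ c ∈ S, c ᵥ* M ∈ T) : InClos T (z ᵥ* M) := by
  intro f hf
  have key : ∀ c : σ → k, MvPolynomial.eval c
      (MvPolynomial.aeval (fun j => ∑ i, MvPolynomial.X i * MvPolynomial.C (M i j)) f) = MvPolynomial.eval (c ᵥ* M) f :=
    fun c => by
      rw [← MvPolynomial.aeval_eq_eval, ← AlgHom.comp_apply, MvPolynomial.comp_aeval, MvPolynomial.aeval_eq_eval]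
      congr 2
      funext i
      simp [Matrix.vecMul, dotProduct]
  rw [← key]
  exact h _ fun c hc => by rw [key]; exact hf _ (hM c hc)

section Sum

variable {H : Type u} [CommRing H] [HopfAlgebra k H] {κ₀ : Type w} [Fintype κ₀] [DecidableEq κ₀]
  {κ : Type w'} [Fintype κ] [DecidableEq κ]

theorem IsCorep.fromBlocks {E : Matrix κ₀ κ₀ H} {U : Matrix κ κ H} (hE : IsCorep k E) (hU : IsCorep k U) :
    IsCorep k (Matrix.fromBlocks E 0 0 U) := by
  constructor
  · rintro (i | i) (j | j) <;> simp [Fintype.sum_sum_type, hE.comul, hU.comul]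
  · rintro (i | i) (j | j) <;> simp [hE.counit, hU.counit, Matrix.one_apply]

omit [Fintype κ₀] [DecidableEq κ₀] [Fintype κ] [DecidableEq κ] in
theorem ev_fromBlocks {B : Type*} [CommRing B] [Algebra k B] (E : Matrix κ₀ κ₀ H) (U : Matrix κ κ H)
    (g : WithConv (H →ₐ[k] B)) : ev (Matrix.fromBlocks E 0 0 U) g = Matrix.fromBlocks (ev E g) 0 0 (ev U g) := by
  rw [ev, Matrix.fromBlocks_map, Matrix.map_zero _ (map_zero _), Matrix.map_zero _ (map_zero _)]
  rfl

omit [DecidableEq κ₀] [DecidableEq κ] in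
theorem vecMul_ev_fromBlocks {B : Type*} [CommRing B] [Algebra k B] (E : Matrix κ₀ κ₀ H) (U : Matrix κ κ H)
    (g : WithConv (H →ₐ[k] B)) (x : κ₀ → B) (y : κ → B) :
    Sum.elim x y ᵥ* ev (Matrix.fromBlocks E 0 0 U) g = Sum.elim (x ᵥ* ev E g) (y ᵥ* ev U g) := by
  rw [ev_fromBlocks, Matrix.vecMul_fromBlocks]
  simp

end Sum

variable [IsAlgClosed k] [CharZero k] {A : Type u} [CommRing A] [HopfAlgebra k A] [Algebra.FiniteType k A] {N : ℕ}
  {π : GLn N k →ₐc[k] A} (hπ : Function.Surjective π) {α : A →ₗ[k] k} (hα : H20Comod.IsIntegral α) (h1 : α 1 = 1)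
  {κ₀ : Type} [Fintype κ₀] [DecidableEq κ₀] {y : κ₀ → GLn N k} {E : Matrix κ₀ κ₀ (GLn N k)}
  (hy : ∀ j, CoalgebraStruct.comul (R := k) (y j) = ∑ i, y i ⊗ₜ[k] E i j) (hgen : Algebra.adjoin k (Set.range y) = Rleft π)

/-- The base vector. -/
def base (y : κ₀ → GLn N k) : κ₀ → k := fun j => (1 : GP k N k).ofConv (y j)

omit [IsAlgClosed k] [CharZero k] [DecidableEq κ₀] in
include hy in
theorem base_vecMul (g : GP k N k) : base y ᵥ* ev E g = fun j => g.ofConv (y j) := by
  rw [show (fun j => g.ofConv (y j)) = fun j => ((1 : GP k N k) * g).ofConv (y j) by rw [one_mul]]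
  exact (ev_vec_mul hy 1 g).symm

include hy hgen in
theorem vecMul_res (q : WithConv (A →ₐ[k] k)) : base y ᵥ* ev E (res π q) = base y := by
  rw [base_vecMul hy]
  funext j
  have h := (hgen.le (Algebra.subset_adjoin (Set.mem_range_self j)) : y j ∈ Rleft π) q 1
  rwa [mul_one] at h

include hπ hα h1 hy hgen in
theorem inG_of_vecMul_eq (g : GP k N k) (h : base y ᵥ* ev E g = base y) : InG π g := by
  refine inG_of_forall_Rleft hπ hα h1 g fun f hf => ?_
  rw [base_vecMul hy] at h
  have : Set.EqOn g.ofConv (1 : GP k N k).ofConv (Set.range y) := by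
    rintro _ ⟨j, rfl⟩
    exact congrFun h j
  exact AlgHom.eqOn_adjoin_iff.2 this (hgen ▸ hf)

variable {κ : Type w} [Fintype κ] [DecidableEq κ] {U : Matrix κ κ (GLn N k)} (hU : IsCorep k U)

/-- The set spanned by the translates of a stable set. -/
def orbitSet (y : κ₀ → GLn N k) (E : Matrix κ₀ κ₀ (GLn N k)) (U : Matrix κ κ (GLn N k)) (C : Set (κ → k)) :
    Set (κ₀ ⊕ κ → k) :=
  {z | ∃ g : GP k N k, ∃ c ∈ C, z = Sum.elim (base y ᵥ* ev E g) (c ᵥ* ev U g)}

omit [IsAlgClosed k] [CharZero k] in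
theorem vecMul_mem_orbitSet (hE : IsCorep k E) (hU : IsCorep k U) {C : Set (κ → k)} {z : κ₀ ⊕ κ → k}
    (hz : z ∈ orbitSet y E U C) (g : GP k N k) : z ᵥ* ev (Matrix.fromBlocks E 0 0 U) g ∈ orbitSet y E U C := by
  obtain ⟨g', c, hc, rfl⟩ := hz
  exact ⟨g' * g, c, hc, by rw [vecMul_ev_fromBlocks, hE.ev_mul, hU.ev_mul, Matrix.vecMul_vecMul, Matrix.vecMul_vecMul]⟩

include hπ hα h1 hy hgen hU in
/-- The translates of a closed stable set form a closed set. -/
theorem mem_orbitSet_of_inClos (hE : IsCorep k E) {C : Set (κ → k)}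
    (hCG : ∀ c ∈ C, ∀ q : WithConv (A →ₐ[k] k), c ᵥ* ev U (res π q) ∈ C)
    (hC : ∀ z, InClos C z → z ∈ C) {z : κ₀ ⊕ κ → k} (hz : InClos (orbitSet y E U C) z) :
    z ∈ orbitSet y E U C := by
  classical
  have hz1 : InClos (σ := κ₀) (Set.range fun g : GP k N k => fun j => g.ofConv (y j)) (z ∘ Sum.inl) := by
    intro f hf
    rw [← MvPolynomial.eval_rename]
    refine hz _ fun c ⟨g, c', _, hc⟩ => ?_
    rw [MvPolynomial.eval_rename, hc]
    exact hf _ ⟨g, by rw [base_vecMul hy]; rfl⟩
  let θ : MvPolynomial κ₀ k →ₐ[k] Rleft π :=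
    (MvPolynomial.aeval y).codRestrict (Rleft π) fun p => by
      rw [← hgen, Algebra.adjoin_range_eq_range_aeval]
      exact ⟨p, rfl⟩
  have hθ : Function.Surjective θ := fun f => by
    have hf : (f : GLn N k) ∈ Algebra.adjoin k (Set.range y) := by rw [hgen]; exact f.2
    rw [Algebra.adjoin_range_eq_range_aeval] at hf
    obtain ⟨p, hp⟩ := hf
    exact ⟨p, Subtype.ext hp⟩
  let φ := AlgHom.liftOfSurjective θ hθ (MvPolynomial.aeval (z ∘ Sum.inl)) fun p hp => by
    refine hz1 p ?_
    rintro _ ⟨g, rfl⟩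
    have hp' : MvPolynomial.aeval y p = 0 := congrArg Subtype.val hp
    rw [← MvPolynomial.aeval_eq_eval, ← MvPolynomial.comp_aeval, AlgHom.comp_apply, hp', map_zero]
  obtain ⟨g₀, hg₀⟩ := exists_point_of_Rleft hα h1 φ
  have hzl : z ∘ Sum.inl = base y ᵥ* ev E g₀ := by
    rw [base_vecMul hy]
    funext j
    have h := hg₀ (θ (MvPolynomial.X j))
    rw [AlgHom.liftOfSurjective_apply, MvPolynomial.aeval_X] at h
    rw [← h]
    show g₀.ofConv (MvPolynomial.aeval y (MvPolynomial.X j)) = _
    rw [MvPolynomial.aeval_X]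
  set c := (z ∘ Sum.inr) ᵥ* ev U (cinv g₀) with hc
  suffices hcC : c ∈ C by
    refine ⟨g₀, c, hcC, ?_⟩
    rw [← hzl, hc, Matrix.vecMul_vecMul, hU.ev_inv_mul, Matrix.vecMul_one, Sum.elim_comp_inl_inr]
  have hzt : InClos (orbitSet y E U C) (Sum.elim (base y) c) := by
    have := hz.map (T := orbitSet y E U C) (ev (Matrix.fromBlocks E 0 0 U) (cinv g₀))
      fun d hd => vecMul_mem_orbitSet hE hU hd _
    rwa [← Sum.elim_comp_inl_inr z, vecMul_ev_fromBlocks, hzl, Matrix.vecMul_vecMul, hE.ev_mul_inv,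
      Matrix.vecMul_one] at this
  refine hC c fun h₀ hh₀ => ?_
  let cz : (κ → k) → GLn N k := fun x => MvPolynomial.aeval
    (fun i => ∑ j, x j • HopfAlgebra.antipode k (U j i)) h₀
  have hcz : ∀ (x : κ → k) (g : GP k N k), g.ofConv (cz x) = MvPolynomial.eval (x ᵥ* ev U (cinv g)) h₀ := fun x g => by
    rw [← MvPolynomial.aeval_eq_eval, ← AlgHom.comp_apply, MvPolynomial.comp_aeval]
    congr 2
    funext i
    simp only [map_sum, map_smul, smul_eq_mul, Matrix.vecMul, dotProduct]
    rfl
  suffices hξ : π (cz c) = 0 by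
    have h := congrArg (fun x => (1 : WithConv (A →ₐ[k] k)).ofConv x) hξ
    simp only [map_zero] at h
    rw [show (1 : WithConv (A →ₐ[k] k)).ofConv (π (cz c)) = (res π (1 : WithConv (A →ₐ[k] k))).ofConv (cz c) from rfl,
      res_one, hcz, cinv_one, hU.ev_one, Matrix.vecMul_one] at h
    exact h
  refine eq_zero_of_integral hα h1 fun a => ?_
  obtain ⟨a, rfl⟩ := hπ a
  let P : MvPolynomial κ (GLn N k) := MvPolynomial.aeval
    (fun i => ∑ j, MvPolynomial.X j * MvPolynomial.C (HopfAlgebra.antipode k (U j i))) h₀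
  have hP : ∀ x : κ → k, cz x = ∑ m ∈ P.support, (∏ j, x j ^ m j) • P.coeff m := fun x => by
    have h : MvPolynomial.eval (fun j => algebraMap k (GLn N k) (x j)) P = cz x := by
      show ((MvPolynomial.aeval fun j => algebraMap k (GLn N k) (x j)) :
        MvPolynomial κ (GLn N k) →ₐ[GLn N k] GLn N k).restrictScalars k P = _
      rw [← AlgHom.comp_apply, MvPolynomial.comp_aeval]
      congr 2
      funext i
      simp [Algebra.smul_def]
    rw [← h, MvPolynomial.eval_eq']
    exact Finset.sum_congr rfl fun m _ => by rw [Algebra.smul_def, map_prod, mul_comm]; simp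
  have hF : ∀ m : κ →₀ ℕ, ∃ p : MvPolynomial κ₀ k, MvPolynomial.aeval y p = avg π α (a * P.coeff m) := fun m => by
    obtain ⟨p, hp⟩ := hθ ⟨_, avg_mem π hα (a * P.coeff m)⟩
    exact ⟨p, congrArg Subtype.val hp⟩
  choose p hp using hF
  let Φ : MvPolynomial (κ₀ ⊕ κ) k :=
    ∑ m ∈ P.support, MvPolynomial.rename Sum.inl (p m) * ∏ j, MvPolynomial.X (Sum.inr j) ^ m j
  have hΦ : ∀ (g : GP k N k) (x : κ → k),
      MvPolynomial.eval (Sum.elim (fun j => g.ofConv (y j)) x) Φ = g.ofConv (avg π α (a * cz x)) := fun g x => by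
    rw [hP, Finset.mul_sum]
    simp only [Φ, map_sum, map_mul, map_prod, map_pow, MvPolynomial.eval_rename, MvPolynomial.eval_X, Sum.elim_inr,
      Sum.elim_comp_inl, mul_smul_comm, map_smul, smul_eq_mul]
    refine Finset.sum_congr rfl fun m _ => ?_
    rw [mul_comm, ← hp, ← AlgHom.comp_apply, MvPolynomial.comp_aeval, MvPolynomial.aeval_eq_eval]
  have h := hzt Φ fun d ⟨g, c', hc', hd⟩ => by
    rw [hd, base_vecMul hy, hΦ, apply_avg, map_actL_mul, map_mul π,
      show π (H20Comod.actL g.ofConv.toLinearMap (cz (c' ᵥ* ev U g))) = 0 from eq_of_forall_pt (k := k) fun q => ?_,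
      mul_zero, map_zero]
    rw [map_zero, show q.ofConv (π (H20Comod.actL g.ofConv.toLinearMap (cz (c' ᵥ* ev U g)))) =
      (res π q).ofConv (H20Comod.actL g.ofConv.toLinearMap (cz (c' ᵥ* ev U g))) from rfl, apply_actL, hcz,
      cinv_mul_rev, hU.ev_mul, ← Matrix.vecMul_vecMul, Matrix.vecMul_vecMul c', hU.ev_mul_inv, Matrix.vecMul_one, ← res_inv]
    exact hh₀ _ (hCG c' hc' (cinv q))
  rw [show base y = fun j => (1 : GP k N k).ofConv (y j) from rfl, hΦ, apply_avg,
    show H20Comod.actL (1 : GP k N k).ofConv.toLinearMap (a * cz c) = a * cz c from H20Comod.actL_counit _,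
    map_mul π] at h
  exact h

section Smith

/-- The image of a torus point expressed through the weights. -/
theorem vecMul_ev_diagPt {σ : Type w} [Fintype σ] (E : Matrix σ σ (GLn N k)) {K : Type u} [CommRing K] [Algebra k K]
    (D : Fin N → Kˣ) (x : σ → K) :
    x ᵥ* ev E (diagPt (k := k) D) = ∑ e ∈ wts E, ((∏ i, D i ^ e i : Kˣ) : K) • (x ᵥ* (wt E e).map (algebraMap k K)) := by
  rw [ev_diagPt, Matrix.vecMul_sum]
  exact Finset.sum_congr rfl fun e _ => Matrix.vecMul_smul _ _ _

omit [IsAlgClosed k] [CharZero k] in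
/-- The Iwahori step: an integral translate gives a one-parameter subgroup with limit in a closed invariant set. -/
theorem exists_limit_of_integral {σ : Type w} [Fintype σ] [DecidableEq σ] {E : Matrix σ σ (GLn N k)}
    (hE : IsCorep k E) {S : Set (σ → k)} (hSG : ∀ z ∈ S, ∀ g : GP k N k, z ᵥ* ev E g ∈ S)
    (hS : ∀ z, InClos S z → z ∈ S) [IsAlgClosed k] [CharZero k]
    {K : Type u} [Field K] [Algebra k K] (V : ValuationSubring K) (ψ : V →+* k)
    (hker : RingHom.ker ψ = IsLocalRing.maximalIdeal V) (halg : ∀ c : k, ∃ h : algebraMap k K c ∈ V, ψ ⟨_, h⟩ = c)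
    (g : GP k N K) (w z : σ → k) (hz : z ∈ S)
    (hint : ∀ i, ∃ h : ((fun j => algebraMap k K (w j)) ᵥ* ev E g) i ∈ V, ψ ⟨_, h⟩ = z i) :
    ∃ (a : GP k N k) (r : Fin N → ℤ), (∀ j < 0, (w ᵥ* ev E a) ᵥ* gr E r j = 0) ∧
      (w ᵥ* ev E a) ᵥ* gr E r 0 ∈ S ∧ (r = 0 → ∀ i j, glMat g i j ∈ V) := by
  classical
  letI algV : Algebra k V := ((algebraMap k K).codRestrict V.toSubring fun c => (halg c).1).toAlgebra
  let ι : V →ₐ[k] K := { algebraMap V K with commutes' := fun c => rfl }
  let ψa : V →ₐ[k] k := { ψ with commutes' := fun c => (halg c).2 }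
  have hι : Function.Injective ι := Subtype.val_injective
  obtain ⟨A₁, B₁, D, hA, hB, hABD⟩ := Groth.Agent.S11796.result V K N (glMat g)
  have hD0 : ∀ i, D i ≠ 0 := fun i h => by
    have h' := isUnit_det_glMat g
    rw [hABD, Matrix.det_mul, Matrix.det_mul, Matrix.det_diagonal, Finset.prod_eq_zero (Finset.mem_univ i) h] at h'
    simp at h'
  let Du : Fin N → Kˣ := fun i => Units.mk0 (D i) (hD0 i)
  let av : GP k N V := glPt A₁ (hA ▸ isUnit_one)
  let bv : GP k N V := glPt B₁ (hB ▸ isUnit_one)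
  let up : GP k N V → GP k N K := fun p => toConv (ι.comp p.ofConv)
  have hg : g = up av * diagPt Du * up bv := glMat_ext (by
    rw [glMat_mul, glMat_mul, glMat_comp, glMat_comp, glMat_diagPt, glMat_glPt, glMat_glPt]
    exact hABD)
  have hresC : ∀ (x : σ → V) (M : Matrix σ σ k), (fun i => ψa ((x ᵥ* M.map (algebraMap k V)) i)) = (fun i => ψa (x i)) ᵥ* M :=
    fun x M => funext fun i => by simp [Matrix.vecMul, dotProduct]
  let wV : σ → V := fun j => algebraMap k V (w j)
  let xV : σ → V := wV ᵥ* ev E av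
  let zV : σ → V := fun i => ⟨_, (hint i).1⟩
  let zV' : σ → V := zV ᵥ* ev E (cinv bv)
  let a₀ : GP k N k := toConv (ψa.comp av.ofConv)
  have hx0 : (fun i => ψa (xV i)) = w ᵥ* ev E a₀ := by
    funext i
    rw [show ev E a₀ = (ev E av).map ψa from rfl]
    simp [xV, wV, Matrix.vecMul, dotProduct]
  set z' := fun i => ψa (zV' i) with hz'def
  have hz' : z' ∈ S := by
    have h : z' = z ᵥ* ev E (toConv (ψa.comp (cinv bv).ofConv)) := by
      funext i
      rw [hz'def, show ev E (toConv (ψa.comp (cinv bv).ofConv)) = (ev E (cinv bv)).map ψa from rfl]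
      simp [zV', Matrix.vecMul, dotProduct, show ∀ j, ψa (zV j) = z j from fun j => (hint j).2]
    rw [h]; exact hSG z hz _
  have hxz : (fun i => ι (xV i)) ᵥ* ev E (diagPt Du) = fun i => ι (zV' i) := by
    have h1 : (fun i => ι (xV i)) = (fun j => algebraMap k K (w j)) ᵥ* ev E (up av) := by
      funext i
      rw [show ev E (up av) = (ev E av).map ι from rfl]
      simp [xV, wV, Matrix.vecMul, dotProduct]
    have h2 : (fun i => ι (zV' i)) = (fun i => ι (zV i)) ᵥ* ev E (up (cinv bv)) := by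
      funext i
      rw [show ev E (up (cinv bv)) = (ev E (cinv bv)).map ι from rfl]
      simp [zV', Matrix.vecMul, dotProduct]
    have hb : up bv * up (cinv bv) = 1 := by
      show toConv (ι.comp bv.ofConv) * toConv (ι.comp (cinv bv).ofConv) = 1
      rw [← comp_mul, mul_cinv]
      exact glMat_ext (by rw [glMat_comp, glMat_one, glMat_one, Matrix.map_one _ (map_zero _) (map_one _)])
    rw [h1, h2, show (fun i => ι (zV i)) = (fun j => algebraMap k K (w j)) ᵥ* ev E g from rfl, hg,
      Matrix.vecMul_vecMul, Matrix.vecMul_vecMul, ← hE.ev_mul, ← hE.ev_mul,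
      _root_.mul_assoc (up av * diagPt Du), hb, _root_.mul_one]
  let χ : (Fin N → ℤ) → Kˣ := fun e => ∏ i, Du i ^ e i
  have hχadd : ∀ e f, χ (e + f) = χ e * χ f := fun e f => by
    simp only [χ, Pi.add_apply, _root_.zpow_add, Finset.prod_mul_distrib]
  have hcomp : ∀ e i, ((χ e : K)) * ι ((xV ᵥ* (wt E e).map (algebraMap k V)) i) =
      ι ((zV' ᵥ* (wt E e).map (algebraMap k V)) i) := by
    intro e i
    have hm : ∀ x : σ → V, (fun i => ι ((x ᵥ* (wt E e).map (algebraMap k V)) i)) =
        (fun i => ι (x i)) ᵥ* (wt E e).map (algebraMap k K) := fun x => funext fun i => by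
      simp [Matrix.vecMul, dotProduct]
    rw [congrFun (hm xV) i, congrFun (hm zV') i, ← hxz, vecMul_ev_diagPt, Matrix.sum_vecMul]
    rw [Finset.sum_apply, Finset.sum_congr rfl fun f _ => show
      ((((∏ i, Du i ^ f i : Kˣ) : K) • ((fun i => ι (xV i)) ᵥ* (wt E f).map (algebraMap k K))) ᵥ* (wt E e).map (algebraMap k K)) i =
        if f = e then (χ e : K) * (((fun i => ι (xV i)) ᵥ* (wt E e).map (algebraMap k K)) i) else 0 by
      rw [Matrix.smul_vecMul, Matrix.vecMul_vecMul, ← Matrix.map_mul, wt_mul_wt hE]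
      split_ifs with h
      · subst h; rfl
      · simp [Matrix.map_zero], Finset.sum_ite_eq']
    split_ifs with he
    · rfl
    · simp [wt_eq_zero E he, Matrix.map_zero]
  -- valuations
  have hψ1 : ∀ x : V, ψa x ≠ 0 → V.valuation (ι x) = 1 := fun x hx => by
    refine (V.valuation_eq_one_iff _).1 ?_
    by_contra h
    exact hx (show x ∈ RingHom.ker ψ by rw [hker]; exact h)
  have hψ0 : ∀ x : V, V.valuation (ι x) < 1 → ψa x = 0 := fun x hx => by
    show x ∈ RingHom.ker ψ
    rw [hker]
    exact (V.valuation_lt_one_iff _).2 hx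
  have hwpole : ∀ e, 1 < V.valuation (χ e : K) → (w ᵥ* ev E a₀) ᵥ* wt E e = 0 := fun e he => by
    rw [← hx0, ← hresC]
    funext i
    by_contra h
    have h1 := congrArg V.valuation (hcomp e i)
    rw [map_mul, hψ1 _ h, mul_one] at h1
    exact absurd (h1 ▸ V.valuation_le_one _) (not_le.2 he)
  have hzpos : ∀ e, V.valuation (χ e : K) < 1 → z' ᵥ* wt E e = 0 := fun e he => by
    rw [hz'def, ← hresC]
    funext i
    refine hψ0 _ ?_
    rw [← hcomp e i, map_mul]
    exact mul_lt_one_of_lt_of_le he (V.valuation_le_one _)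
  -- the sign vector
  let u : Fin N → (V.ValueGroup)ˣ := fun i => Units.mk0 (V.valuation (D i)) ((map_ne_zero _).2 (hD0 i))
  let χa : Fin N → Additive (V.ValueGroup)ˣ := fun i => Additive.ofMul (u i)⁻¹
  let Φ : Finset (Fin N → ℤ) := wts E ∪ Finset.univ.image fun i : Fin N => fun j => if j = i then (1 : ℤ) else 0
  obtain ⟨r, hr⟩ := Groth.Agent.S11804.result (Additive (V.ValueGroup)ˣ) N χa Φ
  have hval : ∀ e : Fin N → ℤ,
      (((Additive.toMul (∑ i, e i • χa i))⁻¹ : (V.ValueGroup)ˣ) : V.ValueGroup) = V.valuation (χ e : K) := by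
    intro e
    simp only [χa, ← ofMul_zpow, toMul_sum, toMul_ofMul, _root_.inv_zpow', Finset.prod_inv_distrib, _root_.zpow_neg, inv_inv,
      Units.coe_prod, χ, map_prod, Units.val_zpow_eq_zpow_val, u, Du, Units.val_mk0, map_zpow₀]
  have hpos : ∀ e, 0 < ∑ i, e i • χa i ↔ V.valuation (χ e : K) < 1 := fun e => by
    rw [← hval, ← Units.val_one, Units.val_lt_val, inv_lt_one']
    exact Iff.rfl
  have hzero : ∀ e, ∑ i, e i • χa i = 0 ↔ V.valuation (χ e : K) = 1 := fun e => by
    rw [← hval, ← Units.val_one, Units.val_inj, inv_eq_one]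
    exact Iff.rfl
  have hdot : ∀ e : Fin N → ℤ, ∑ i, e i * r i = dotp r e := fun e => Finset.sum_congr rfl fun i _ => mul_comm _ _
  have hsign : ∀ e ∈ wts E, (dotp r e < 0 → 1 < V.valuation (χ e : K)) ∧ (dotp r e = 0 ↔ V.valuation (χ e : K) = 1) :=
    fun e he => by
      have h := hr e (Finset.mem_union_left _ he)
      rw [hdot, hpos, hzero] at h
      refine ⟨fun hneg => ?_, h.2.symm⟩
      rcases lt_trichotomy (V.valuation (χ e : K)) 1 with hl | hl | hl
      · exact absurd (h.1.1 hl) (not_lt.2 hneg.le)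
      · exact absurd (h.2.1 hl) hneg.ne
      · exact hl
  refine ⟨a₀, r, fun j hj => ?_, ?_, fun h0 => ?_⟩
  · rw [gr, Matrix.vecMul_sum]
    refine Finset.sum_eq_zero fun e he => ?_
    obtain ⟨he1, he2⟩ := Finset.mem_filter.1 he
    exact hwpole e ((hsign e he1).1 (he2 ▸ hj))
  · -- the monoid of weights without zero
    let M : AddSubmonoid (Fin N → ℤ) :=
      { carrier := {e | 1 ≤ V.valuation (χ e : K)}
        zero_mem' := by simp [χ]
        add_mem' := fun {e f} he hf => by
          show 1 ≤ V.valuation ((χ (e + f) : Kˣ) : K)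
          rw [hχadd, Units.val_mul, map_mul]
          exact one_le_mul he hf }
    have hunit : ∀ e, V.valuation (χ e : K) = 1 → ∃ h : (χ e : K) ∈ V, ψa ⟨_, h⟩ ≠ 0 := fun e he => by
      refine ⟨(V.valuation_le_one_iff _).1 he.le, fun h0 => ?_⟩
      have h1 : (⟨_, (V.valuation_le_one_iff _).1 he.le⟩ : V) ∈ IsLocalRing.maximalIdeal V := hker ▸ (h0 : _ ∈ RingHom.ker ψ)
      exact ((V.valuation_lt_one_iff _).1 h1).ne he
    let τ : (Fin N → ℤ) → k := fun e =>
      if h : V.valuation (χ e : K) = 1 then (ψa ⟨_, (hunit e h).choose⟩)⁻¹ else 0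
    let ωm : Multiplicative M →* k :=
      { toFun := fun e => τ (Multiplicative.toAdd e : M)
        map_one' := by
          have h : V.valuation ((χ ((0 : M) : Fin N → ℤ) : Kˣ) : K) = 1 := by simp [χ]
          show τ _ = 1
          simp only [τ, toAdd_one]
          rw [dif_pos h]
          refine inv_eq_one.2 ((congrArg ψa (Subtype.ext ?_)).trans (map_one ψa))
          simp [χ]
        map_mul' := fun e f => by
          set e' : Fin N → ℤ := ((Multiplicative.toAdd e : M) : Fin N → ℤ)
          set f' : Fin N → ℤ := ((Multiplicative.toAdd f : M) : Fin N → ℤ)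
          show τ (e' + f') = τ e' * τ f'
          have hadd : V.valuation (χ (e' + f') : K) = V.valuation (χ e' : K) * V.valuation (χ f' : K) := by
            rw [hχadd, Units.val_mul, map_mul]
          have he1 : 1 ≤ V.valuation (χ e' : K) := (Multiplicative.toAdd e : M).2
          have hf1 : 1 ≤ V.valuation (χ f' : K) := (Multiplicative.toAdd f : M).2
          by_cases hef : V.valuation (χ e' : K) = 1 ∧ V.valuation (χ f' : K) = 1
          · have h12 : V.valuation (χ (e' + f') : K) = 1 := by rw [hadd, hef.1, hef.2, one_mul]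
            simp only [τ]
            rw [dif_pos h12, dif_pos hef.1, dif_pos hef.2, ← mul_inv, ← map_mul]
            congr 2
            exact Subtype.ext ((congrArg Units.val (hχadd e' f')).trans (Units.val_mul _ _))
          · simp only [τ]
            rw [dif_neg]
            · rcases not_and_or.1 hef with h | h <;> simp [h]
            · intro h
              rw [hadd] at h
              have h1 := le_antisymm (h ▸ le_mul_of_one_le_right' hf1) he1
              rw [h1, one_mul] at h
              exact hef ⟨h1, h⟩ }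
    let ω : AddMonoidAlgebra k M →ₐ[k] k := AddMonoidAlgebra.lift k k M ωm
    let emb : AddMonoidAlgebra k M →ₐ[k] Lau k N := AddMonoidAlgebra.mapDomainAlgHom k k M.subtype
    have hemb : Function.Injective emb := fun x y h => by
      have h' := congrArg AddMonoidAlgebra.coeff h
      exact AddMonoidAlgebra.ext (Finsupp.mapDomain_injective Subtype.val_injective h')
    let PM : σ → AddMonoidAlgebra k M := fun i => ∑ e ∈ wts E,
      if h : e ∈ M then AddMonoidAlgebra.single ⟨e, h⟩ ((z' ᵥ* wt E e) i) else 0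
    refine hS _ fun f hf => ?_
    have hPM : ∀ i, emb (PM i) = ((fun j => algebraMap k (Lau k N) (z' j)) ᵥ* ev E (torusPt k N)) i := fun i => by
      simp only [PM, map_sum, Matrix.vecMul, dotProduct, ev_torusPt]
      simp only [Finset.mul_sum]
      rw [Finset.sum_comm (s := Finset.univ)]
      refine Finset.sum_congr rfl fun e _ => ?_
      have hsum : (∑ j, algebraMap k (Lau k N) (z' j) * AddMonoidAlgebra.single e (wt E e j i) : Lau k N) =
          AddMonoidAlgebra.single e ((z' ᵥ* wt E e) i) := by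
        refine AddMonoidAlgebra.ext (Finsupp.ext fun q => ?_)
        rw [AddMonoidAlgebra.coeff_sum, Finsupp.finsetSum_apply, AddMonoidAlgebra.coeff_single, Finsupp.single_apply]
        simp only [← Algebra.smul_def, AddMonoidAlgebra.coeff_smul, AddMonoidAlgebra.coeff_single, Finsupp.smul_apply,
          Finsupp.single_apply, smul_eq_mul]
        split_ifs <;> simp [Matrix.vecMul, dotProduct]
      rw [hsum]
      split_ifs with h
      · simp [emb, Matrix.vecMul, dotProduct]
      · rw [map_zero, hzpos e (not_le.1 h)]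
        simp
    have hzero' : MvPolynomial.aeval (fun i => emb (PM i)) f = 0 := by
      let F : GLn N k := MvPolynomial.aeval (fun i => ∑ j, z' j • E j i) f
      have hFp : ∀ p : GP k N k, p.ofConv F = MvPolynomial.eval (z' ᵥ* ev E p) f := fun p => by
        rw [← MvPolynomial.aeval_eq_eval, ← AlgHom.comp_apply, MvPolynomial.comp_aeval]
        congr 2
        funext i
        simp [Matrix.vecMul, dotProduct, ev_apply]
      have hF0 : F = 0 := eq_of_forall_pt (k := k) fun p => by rw [hFp, map_zero]; exact hf _ (hSG z' hz' p)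
      have h := congrArg (torusPt k N).ofConv hF0
      rw [map_zero, ← AlgHom.comp_apply, MvPolynomial.comp_aeval] at h
      refine Eq.trans ?_ h
      congr 2
      funext i
      rw [hPM i]
      simp [Matrix.vecMul, dotProduct, ev_apply, Algebra.smul_def]
    have hM0 : MvPolynomial.aeval PM f = 0 := hemb (by
      rw [map_zero, ← AlgHom.comp_apply, MvPolynomial.comp_aeval]; exact hzero')
    have h := congrArg ω hM0
    rw [map_zero, ← AlgHom.comp_apply, MvPolynomial.comp_aeval] at h
    refine Eq.trans ?_ h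
    rw [MvPolynomial.aeval_eq_eval]
    congr 2
    funext i
    simp only [PM, map_sum, gr, Matrix.vecMul_sum, Finset.sum_apply, Finset.sum_filter]
    refine Finset.sum_congr rfl fun e he => ?_
    by_cases hv : V.valuation (χ e : K) = 1
    · rw [if_pos ((hsign e he).2.2 hv), dif_pos (show e ∈ M from hv.ge), AddMonoidAlgebra.lift_single]
      show _ = _ • τ e
      simp only [τ]
      rw [dif_pos hv, smul_eq_mul, ← hx0, ← hresC, hz'def, ← hresC]
      have h2 : (⟨_, (hunit e hv).choose⟩ : V) * (xV ᵥ* (wt E e).map (algebraMap k V)) i =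
          (zV' ᵥ* (wt E e).map (algebraMap k V)) i := hι (hcomp e i)
      beta_reduce
      rw [← h2, map_mul, mul_comm (ψa _), _root_.mul_assoc, mul_inv_cancel₀ (hunit e hv).choose_spec, _root_.mul_one]
    · rw [if_neg fun h => hv ((hsign e he).2.1 h), Matrix.vecMul_zero, Pi.zero_apply]
      split_ifs with hM'
      · rw [AddMonoidAlgebra.lift_single]
        show _ = _ • τ e
        simp only [τ]
        rw [dif_neg hv, smul_zero]
      · rw [map_zero]
  · have hD1 : ∀ i, D i ∈ V := fun i => by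
      rw [← V.valuation_le_one_iff]
      have hmem : (fun j => if j = i then (1 : ℤ) else 0) ∈ Φ :=
        Finset.mem_union_right _ (Finset.mem_image_of_mem _ (Finset.mem_univ i))
      have h3 := (hzero _).1 ((hr _ hmem).2.2 (by simp [h0]))
      refine le_of_eq (Eq.trans ?_ h3)
      congr 1
      show D i = ((∏ l, Du l ^ (if l = i then (1 : ℤ) else 0) : Kˣ) : K)
      rw [Finset.prod_eq_single i (fun l _ hl => by rw [if_neg hl, zpow_zero]) (by simp), if_pos rfl, zpow_one]
      rfl
    intro i j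
    rw [hABD]
    simp only [Matrix.mul_apply, Matrix.diagonal_apply, mul_ite, mul_zero, Finset.sum_ite_eq', Finset.mem_univ, if_true]
    exact V.toSubring.sum_mem fun c _ => V.mul_mem _ _ (V.mul_mem _ _ (A₁ i c).2 (hD1 c)) (B₁ c j).2

end Smith

end

end Groth.Agent.H20HM
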