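import Groth.Agent.H20HM.Tangent
import Groth.Agent.H20HM.Closed
import Mathlib.RingTheory.Bialgebra.MonoidAlgebra

/-!
# From a limit in `GL_N` to a one-parameter subgroup of the reductive subgroup
-/

set_option autoImplicit false

universe u v w w'

open TensorProduct HopfRep WithConv Matrix CoordGrp

namespace Groth.Agent.H20HM

noncomputable section

variable {k : Type u} [Field k]

/-! ### Laurent polynomials -/

/-- Evaluation of Laurent polynomials at a unit. -/
def evT (t : kˣ) : LaurentPolynomial k →ₐ[k] k :=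
  AddMonoidAlgebra.lift k k ℤ ((Units.coeHom k).comp (zpowersHom kˣ t))

theorem evT_single (t : kˣ) (j : ℤ) (c : k) : evT t (AddMonoidAlgebra.single j c) = c * (t : k) ^ j := by
  rw [evT, AddMonoidAlgebra.lift_single, smul_eq_mul, MonoidHom.comp_apply, zpowersHom_apply, Units.coeHom_apply,
    Units.val_zpow_eq_zpow_val]
  rfl

theorem evT_T (t : kˣ) (j : ℤ) : evT t (LaurentPolynomial.T j) = (t : k) ^ j := by
  rw [LaurentPolynomial.T, evT_single, one_mul]

theorem evT_toLaurent (t : kˣ) (p : Polynomial k) : evT t (Polynomial.toLaurent p) = p.eval (t : k) := by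
  have h : (evT t).comp Polynomial.toLaurentAlg = Polynomial.aeval (t : k) := Polynomial.algHom_ext (by
    rw [AlgHom.comp_apply, Polynomial.toLaurentAlg_apply, Polynomial.toLaurent_X, evT_T, zpow_one, Polynomial.aeval_X])
  rw [← Polynomial.coe_aeval_eq_eval, ← h]
  rfl

/-- A Laurent polynomial vanishing at every unit is zero. -/
theorem eq_zero_of_forall_evT [Infinite k] {P : LaurentPolynomial k} (h : ∀ t, evT t P = 0) : P = 0 := by
  obtain ⟨n, p, hp⟩ := P.exists_T_pow
  have h2 : Polynomial.X * p = 0 := Polynomial.funext fun t => by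
    rw [Polynomial.eval_mul, Polynomial.eval_X, Polynomial.eval_zero]
    by_cases ht : t = 0
    · rw [ht, zero_mul]
    · have h1 := evT_toLaurent (Units.mk0 t ht) p
      rw [hp, map_mul, h, zero_mul] at h1
      rw [← show (Units.mk0 t ht : k) = t from rfl, ← h1, mul_zero]
  rw [(mul_eq_zero.1 h2).resolve_left Polynomial.X_ne_zero, map_zero] at hp
  exact ((LaurentPolynomial.isUnit_T (n : ℤ)).mul_left_eq_zero).1 hp.symm

theorem coeff_toLaurent_natCast (p : Polynomial k) (i : ℕ) : (Polynomial.toLaurent p).coeff (i : ℤ) = p.coeff i := by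
  rw [LaurentPolynomial.coeff_toLaurent]
  exact Finsupp.mapDomain_apply Nat.castEmbedding.injective _ i

theorem coeff_toLaurent_neg (p : Polynomial k) {j : ℤ} (hj : j < 0) : (Polynomial.toLaurent p).coeff j = 0 := by
  rw [LaurentPolynomial.coeff_toLaurent]
  refine Finsupp.mapDomain_of_notMem_range _ _ ?_
  rintro ⟨i, rfl⟩
  simp at hj
  omega

theorem exists_polynomial {P : LaurentPolynomial k} (h : ∀ j < 0, P.coeff j = 0) :
    ∃ p : Polynomial k, Polynomial.toLaurent p = P := by
  refine ⟨∑ j ∈ P.coeff.support, Polynomial.monomial j.toNat (P.coeff j), ?_⟩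
  rw [map_sum]
  conv_rhs => rw [← AddMonoidAlgebra.sum_coeff_single P]
  refine Finset.sum_congr rfl fun j hj => ?_
  have h0 : 0 ≤ j := by
    by_contra hh
    exact Finsupp.mem_support_iff.1 hj (h j (not_le.1 hh))
  rw [← Polynomial.C_mul_X_pow_eq_monomial, Polynomial.toLaurent_C_mul_X_pow, ← LaurentPolynomial.single_eq_C_mul_T,
    Int.toNat_of_nonneg h0]

variable {N : ℕ}

/-- Constants as Laurent points. -/
def upL (g : GP k N k) : GP k N (LaurentPolynomial k) := toConv ((Algebra.ofId k (LaurentPolynomial k)).comp g.ofConv)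

theorem upL_mul (g h : GP k N k) : upL (g * h) = upL g * upL h := comp_mul _ _ _

theorem upL_one : upL (1 : GP k N k) = 1 := glMat_ext (by
  rw [upL, glMat_comp, glMat_one, glMat_one, Matrix.map_one _ (map_zero _) (map_one _)])

theorem ev_upL {κ : Type w} (E : Matrix κ κ (GLn N k)) (g : GP k N k) :
    ev E (upL g) = (ev E g).map (algebraMap k (LaurentPolynomial k)) := rfl

theorem vecMul_upL {κ : Type w} [Fintype κ] (E : Matrix κ κ (GLn N k)) (g : GP k N k) (x : κ → k) :
    (fun i => algebraMap k (LaurentPolynomial k) (x i)) ᵥ* ev E (upL g) =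
      fun i => algebraMap k (LaurentPolynomial k) ((x ᵥ* ev E g) i) := by
  funext b
  simp [ev_upL, Matrix.vecMul, dotProduct]

theorem coeff_vecMul_lamPt {κ : Type w} [Fintype κ] (E : Matrix κ κ (GLn N k)) (r : Fin N → ℤ) (x : κ → k) (b : κ)
    (j : ℤ) : (((fun i => algebraMap k (LaurentPolynomial k) (x i)) ᵥ* ev E (lamPt (tChar k) r)) b).coeff j =
      (x ᵥ* gr E r j) b := by
  classical
  rw [ev_lamPt]
  simp only [Matrix.vecMul, dotProduct, Matrix.sum_apply, Matrix.smul_apply, Matrix.map_apply, smul_eq_mul, tChar_val,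
    LaurentPolynomial.T, Finset.mul_sum, AddMonoidAlgebra.coeff_sum, Finsupp.finsetSum_apply]
  refine Finset.sum_congr rfl fun i _ => ?_
  rw [Finset.sum_eq_single j]
  · show (AddMonoidAlgebra.single 0 _ * (AddMonoidAlgebra.single j 1 * AddMonoidAlgebra.single 0 _) : LaurentPolynomial k).coeff j = _
    rw [AddMonoidAlgebra.single_mul_single, AddMonoidAlgebra.single_mul_single, AddMonoidAlgebra.coeff_single, add_zero,
      zero_add, Finsupp.single_eq_same, one_mul]
    rfl
  · intro l _ hl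
    show (AddMonoidAlgebra.single 0 _ * (AddMonoidAlgebra.single l 1 * AddMonoidAlgebra.single 0 _) : LaurentPolynomial k).coeff j = _
    rw [AddMonoidAlgebra.single_mul_single, AddMonoidAlgebra.single_mul_single, AddMonoidAlgebra.coeff_single, add_zero,
      zero_add, Finsupp.single_eq_of_ne (Ne.symm hl)]
  · intro hj
    simp [gr_eq_zero E r hj]

theorem gr_fromBlocks {κ₀ : Type w} [Fintype κ₀] [DecidableEq κ₀] {κ : Type w'} [Fintype κ] [DecidableEq κ]
    (E : Matrix κ₀ κ₀ (GLn N k)) (U : Matrix κ κ (GLn N k)) (r : Fin N → ℤ) (j : ℤ) :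
    gr (Matrix.fromBlocks E 0 0 U) r j = Matrix.fromBlocks (gr E r j) 0 0 (gr U r j) := by
  classical
  have hw : ∀ e, wt (Matrix.fromBlocks E 0 0 U) e = Matrix.fromBlocks (wt E e) 0 0 (wt U e) := fun e => by
    ext (a | a) (b | b) <;> simp [wt, ev]
  have hsub : ∀ {α : Type (max w w')} [Fintype α] (G : Matrix α α (GLn N k)) (S : Finset (Fin N → ℤ)), wts G ⊆ S →
      gr G r j = ∑ e ∈ S.filter (fun e => dotp r e = j), wt G e := fun G S hS =>
    Finset.sum_subset (Finset.filter_subset_filter _ hS) fun e he hne =>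
      wt_eq_zero G fun h => hne (Finset.mem_filter.2 ⟨h, (Finset.mem_filter.1 he).2⟩)
  ext (a | a) (b | b) <;> simp only [gr, Matrix.sum_apply, hw, Matrix.fromBlocks_apply₁₁, Matrix.fromBlocks_apply₁₂,
    Matrix.fromBlocks_apply₂₁, Matrix.fromBlocks_apply₂₂, Matrix.zero_apply, Finset.sum_const_zero]
  · rw [← Finset.sum_filter_ne_zero, ← Finset.sum_filter_ne_zero (s := (wts E).filter _)]
    refine Finset.sum_congr (Finset.ext fun e => ?_) fun _ _ => rfl
    simp only [Finset.mem_filter]
    refine ⟨fun h => ⟨⟨?_, h.1.2⟩, h.2⟩, fun h => ⟨⟨?_, h.1.2⟩, h.2⟩⟩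
    · by_contra he
      exact h.2 (by rw [wt_eq_zero E he]; rfl)
    · by_contra he
      have := congrFun (congrFun (wt_eq_zero (Matrix.fromBlocks E 0 0 U) he) (Sum.inl a)) (Sum.inl b)
      rw [hw, Matrix.fromBlocks_apply₁₁] at this
      exact h.2 this
  · rw [← Finset.sum_filter_ne_zero, ← Finset.sum_filter_ne_zero (s := (wts U).filter _)]
    refine Finset.sum_congr (Finset.ext fun e => ?_) fun _ _ => rfl
    simp only [Finset.mem_filter]
    refine ⟨fun h => ⟨⟨?_, h.1.2⟩, h.2⟩, fun h => ⟨⟨?_, h.1.2⟩, h.2⟩⟩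
    · by_contra he
      exact h.2 (by rw [wt_eq_zero U he]; rfl)
    · by_contra he
      have := congrFun (congrFun (wt_eq_zero (Matrix.fromBlocks E 0 0 U) he) (Sum.inr a)) (Sum.inr b)
      rw [hw, Matrix.fromBlocks_apply₂₂] at this
      exact h.2 this

/-! ### The main construction -/

variable [IsAlgClosed k] [CharZero k] {A : Type u} [CommRing A] [HopfAlgebra k A] [Algebra.FiniteType k A]
  {π : GLn N k →ₐc[k] A} (hπ : Function.Surjective π) {α : A →ₗ[k] k} (hα : H20Comod.IsIntegral α) (h1 : α 1 = 1)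
  {κ₀ : Type} [Fintype κ₀] [DecidableEq κ₀] {y : κ₀ → GLn N k} {E : Matrix κ₀ κ₀ (GLn N k)} (hE : IsCorep k E)
  (hy : ∀ j, CoalgebraStruct.comul (R := k) (y j) = ∑ i, y i ⊗ₜ[k] E i j) (hgen : Algebra.adjoin k (Set.range y) = Rleft π)

omit [IsAlgClosed k] [CharZero k] [Algebra.FiniteType k A] [Fintype κ₀] [DecidableEq κ₀] in
include hgen in
theorem induction_Rleft {p : GLn N k → Prop} (hC : ∀ c, p (algebraMap k _ c)) (hX : ∀ j, p (y j))
    (hadd : ∀ a b, p a → p b → p (a + b)) (hmul : ∀ a b, p a → p b → p (a * b)) {f : GLn N k} (hf : f ∈ Rleft π) : p f := by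
  rw [← hgen] at hf
  induction hf using Algebra.adjoin_induction with
  | mem x hx =>
    obtain ⟨j, rfl⟩ := hx
    exact hX j
  | algebraMap c => exact hC c
  | add a b _ _ ha hb => exact hadd a b ha hb
  | mul a b _ _ ha hb => exact hmul a b ha hb

include hπ hα h1 hE hy hgen in
/-- Improving an attracting translate until its base component is fixed. -/
theorem exists_straight {κ : Type w} [Fintype κ] [DecidableEq κ] {U : Matrix κ κ (GLn N k)} (hU : IsCorep k U)
    (r : Fin N → ℤ) (v c : κ → k) (h : GP k N k) (a : GP k N k)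
    (hlow : ∀ j < 0, (Sum.elim (base y) v ᵥ* ev (Matrix.fromBlocks E 0 0 U) a) ᵥ* gr (Matrix.fromBlocks E 0 0 U) r j = 0)
    (hzero : (Sum.elim (base y) v ᵥ* ev (Matrix.fromBlocks E 0 0 U) a) ᵥ* gr (Matrix.fromBlocks E 0 0 U) r 0 =
      Sum.elim (base y ᵥ* ev E h) c) :
    ∃ a' : GP k N k, base y ᵥ* ev E a' = base y ᵥ* ev E h ∧ (∀ j, j ≠ 0 → (base y ᵥ* ev E h) ᵥ* gr E r j = 0) ∧
      (∀ j < 0, (v ᵥ* ev U a') ᵥ* gr U r j = 0) ∧ (v ᵥ* ev U a') ᵥ* gr U r 0 = c := by
  classical
  set F := Matrix.fromBlocks E 0 0 U with hFdef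
  have hF : IsCorep k F := hE.fromBlocks hU
  set w : κ₀ ⊕ κ → k := Sum.elim (base y) v with hw
  have hsplit : ∀ (b : GP k N k) (j : ℤ), (w ᵥ* ev F b) ᵥ* gr F r j =
      Sum.elim ((base y ᵥ* ev E b) ᵥ* gr E r j) ((v ᵥ* ev U b) ᵥ* gr U r j) := fun b j => by
    rw [hw, hFdef, vecMul_ev_fromBlocks, gr_fromBlocks, Matrix.vecMul_fromBlocks]
    simp
  set o' := base y ᵥ* ev E h with ho'
  have hcomp0 : ∀ b : GP k N k, (w ᵥ* ev F b) ᵥ* gr F r 0 = Sum.elim o' c → (base y ᵥ* ev E b) ᵥ* gr E r 0 = o' :=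
    fun b hb => by
      rw [hsplit] at hb
      exact funext fun i => congrFun hb (Sum.inl i)
  have ho'fix : ∀ j, j ≠ 0 → o' ᵥ* gr E r j = 0 := fun j hj => by
    rw [← hcomp0 a hzero, Matrix.vecMul_vecMul (base y ᵥ* ev E a), gr_mul_gr r hE, if_neg (Ne.symm hj), Matrix.vecMul_zero]
  have main : ∀ m : ℕ, ∃ b : GP k N k, (∀ j < 0, (w ᵥ* ev F b) ᵥ* gr F r j = 0) ∧
      (w ᵥ* ev F b) ᵥ* gr F r 0 = Sum.elim o' c ∧
      ∀ j : ℤ, 0 < j → j ≤ m → (base y ᵥ* ev E b) ᵥ* gr E r j = 0 := by
    intro m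
    induction m with
    | zero => exact ⟨a, hlow, hzero, fun j h0 h1 => absurd h1 (by push_cast; omega)⟩
    | succ m ih =>
      obtain ⟨b, hb1, hb2, hb3⟩ := ih
      set n : ℤ := (m : ℤ) + 1 with hn
      have hn0 : 0 < n := by omega
      set wn := (base y ᵥ* ev E b) ᵥ* gr E r n with hwn
      let Z : GP k N (LaurentPolynomial k) := upL b * lamPt (tChar k) r
      have hZy : ∀ (i : κ₀) (j : ℤ), (Z.ofConv (y i)).coeff j = ((base y ᵥ* ev E b) ᵥ* gr E r j) i := fun i j => by
        have e1 : (fun i => Z.ofConv (y i)) = (fun i => algebraMap k (LaurentPolynomial k) (base y i)) ᵥ* ev E Z := by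
          have := ev_vec_mul hy (1 : GP k N (LaurentPolynomial k)) Z
          rw [_root_.one_mul] at this
          exact this
        rw [congrFun e1 i, hE.ev_mul, ← Matrix.vecMul_vecMul, vecMul_upL, coeff_vecMul_lamPt]
      have hlowE : ∀ j < 0, (base y ᵥ* ev E b) ᵥ* gr E r j = 0 := fun j hj => by
        have := hb1 j hj
        rw [hsplit] at this
        exact funext fun i => congrFun this (Sum.inl i)
      have hT : ∀ f ∈ Rleft π, ∃ p : Polynomial k, Polynomial.toLaurent p = Z.ofConv f ∧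
          (∀ i : ℕ, 0 < i → (i : ℤ) < n → p.coeff i = 0) ∧ p.coeff 0 = h.ofConv f := by
        intro f hf
        refine induction_Rleft hgen (p := fun f => ∃ p : Polynomial k, Polynomial.toLaurent p = Z.ofConv f ∧
          (∀ i : ℕ, 0 < i → (i : ℤ) < n → p.coeff i = 0) ∧ p.coeff 0 = h.ofConv f) ?_ ?_ ?_ ?_ hf
        · intro c
          refine ⟨Polynomial.C c, ?_, fun i hi _ => Polynomial.coeff_C_of_ne_zero hi.ne', ?_⟩
          · rw [Polynomial.toLaurent_C, AlgHom.commutes]; rfl
          · rw [Polynomial.coeff_C_zero, AlgHom.commutes]; rfl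
        · intro i
          obtain ⟨p, hp⟩ := exists_polynomial (P := Z.ofConv (y i)) fun j hj => by rw [hZy, hlowE j hj]; rfl
          refine ⟨p, hp, fun l hl hln => ?_, ?_⟩
          · rw [← coeff_toLaurent_natCast, hp, hZy, hb3 l (by omega) (by omega)]
            rfl
          · rw [← coeff_toLaurent_natCast, hp, hZy, Nat.cast_zero, hcomp0 b hb2, ho', base_vecMul hy]
        · rintro f g ⟨p, hp, hp0, hpc⟩ ⟨q, hq, hq0, hqc⟩
          exact ⟨p + q, by rw [map_add, map_add, hp, hq], fun i hi hin => by rw [Polynomial.coeff_add, hp0 i hi hin, hq0 i hi hin, add_zero],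
            by rw [Polynomial.coeff_add, hpc, hqc, map_add]⟩
        · rintro f g ⟨p, hp, hp0, hpc⟩ ⟨q, hq, hq0, hqc⟩
          refine ⟨p * q, by rw [map_mul, map_mul, hp, hq], fun i hi hin => ?_, ?_⟩
          · rw [Polynomial.coeff_mul]
            refine Finset.sum_eq_zero fun z hz => ?_
            rw [Finset.HasAntidiagonal.mem_antidiagonal] at hz
            rcases Nat.eq_zero_or_pos z.1 with h0 | h0
            · rw [hq0 z.2 (by omega) (by omega), mul_zero]
            · rw [hp0 z.1 h0 (by omega), zero_mul]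
          · rw [Polynomial.mul_coeff_zero, hpc, hqc, map_mul]
      choose P hP1 hP2 hP3 using hT
      let δ : Rleft π →ₗ[k] k :=
        { toFun := fun f => (Z.ofConv (f : GLn N k)).coeff n
          map_add' := fun f g => by simp
          map_smul' := fun c f => by simp }
      have hδ : ∀ f g : Rleft π, δ (f * g) = h.ofConv (f : GLn N k) * δ g + h.ofConv (g : GLn N k) * δ f := fun f g => by
        show (Z.ofConv ((f : GLn N k) * (g : GLn N k))).coeff n = h.ofConv (f : GLn N k) * (Z.ofConv (g : GLn N k)).coeff n +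
          h.ofConv (g : GLn N k) * (Z.ofConv (f : GLn N k)).coeff n
        rw [map_mul, ← hP1 _ f.2, ← hP1 _ g.2, ← map_mul, ← hP3 _ f.2, ← hP3 _ g.2,
          show n = ((m + 1 : ℕ) : ℤ) by push_cast; rw [hn], coeff_toLaurent_natCast, coeff_toLaurent_natCast,
          coeff_toLaurent_natCast, Polynomial.coeff_mul]
        rw [Finset.sum_eq_add (a := (0, m + 1)) (b := (m + 1, 0))]
        · ring
        · simp
        · intro z hz hne
          rw [Finset.HasAntidiagonal.mem_antidiagonal] at hz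
          have hz1 : 0 < z.1 := Nat.pos_of_ne_zero fun h0 => hne.1 (Prod.ext h0 (by omega))
          have hz2 : 0 < z.2 := Nat.pos_of_ne_zero fun h0 => hne.2 (Prod.ext (by omega) h0)
          rw [hP2 _ f.2 z.1 hz1 (by omega), zero_mul]
        · intro hh
          exact absurd (Finset.HasAntidiagonal.mem_antidiagonal.2 (by simp)) hh
        · intro hh
          exact absurd (Finset.HasAntidiagonal.mem_antidiagonal.2 (by simp)) hh
      obtain ⟨δ', hδ', hδ'δ⟩ := exists_tangent hπ hα h1 h δ hδ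
      let Lh : GP k N k → GLn N k →ₗ[k] GLn N k := fun g => H20Comod.coeff (GLn N k) g.ofConv.toLinearMap
      have hLh : ∀ (g q : GP k N k) (f : GLn N k), q.ofConv (Lh g f) = (g * q).ofConv f := fun g q f => apply_coeff_pt g q f
      have hLmul : ∀ (g : GP k N k) (f f' : GLn N k), Lh g (f * f') = Lh g f * Lh g f' := fun g f f' =>
        eq_of_forall_pt (k := k) fun q => by rw [map_mul q.ofConv, hLh, hLh, hLh, map_mul]
      let δ₂ : GLn N k →ₗ[k] k := -(δ' ∘ₗ Lh (cinv h))
      have hδ₂ : ∀ f f', δ₂ (f * f') = (1 : GP k N k).ofConv f * δ₂ f' + (1 : GP k N k).ofConv f' * δ₂ f := fun f f' => by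
        have hh : ∀ x, h.ofConv (Lh (cinv h) x) = (1 : GP k N k).ofConv x := fun x => by rw [hLh, cinv_mul]
        simp only [δ₂, LinearMap.neg_apply, LinearMap.comp_apply, hLmul, hδ', hh]
        ring
      have hwn' : o' ᵥ* E.map δ₂ = -wn := by
        funext j
        have hrec : Lh (cinv h) (∑ i, o' i • E i j) = y j := eq_of_forall_pt (k := k) fun q => by
          rw [hLh, map_sum]
          have e2 := congrFun (base_vecMul (E := E) hy (h * (cinv h * q))) j
          rw [hE.ev_mul, ← Matrix.vecMul_vecMul, ← _root_.mul_assoc, mul_cinv, _root_.one_mul] at e2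
          simp only [map_smul, smul_eq_mul]
          exact e2
        have hymem : y j ∈ Rleft π := hgen ▸ Algebra.subset_adjoin (Set.mem_range_self j)
        show ∑ i, o' i * δ₂ (E i j) = -wn j
        rw [hwn, ← hZy j n, show ((Z.ofConv (y j)).coeff n) = δ ⟨y j, hymem⟩ from rfl, ← hδ'δ]
        show _ = -δ' (y j)
        rw [← hrec]
        simp only [δ₂, LinearMap.neg_apply, LinearMap.comp_apply, map_sum, map_smul, smul_eq_mul, mul_neg,
          Finset.sum_neg_distrib]
      obtain ⟨X, hX, hXeq⟩ := exists_weight_part hδ₂ r n hn0 hE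
      have ho'0 : o' ᵥ* gr E r 0 = o' := by
        rw [← hcomp0 b hb2, Matrix.vecMul_vecMul (base y ᵥ* ev E b), gr_mul_gr r hE, if_pos rfl]
      have hδn : o' ᵥ* E.map (uniDer hn0 hX) = -wn := by
        rw [← ho'0, Matrix.vecMul_vecMul, hXeq, ← Matrix.vecMul_vecMul, ← Matrix.vecMul_vecMul, ho'0, hwn', hwn,
          Matrix.neg_vecMul, Matrix.vecMul_vecMul, gr_mul_gr r hE, if_pos rfl]
      have hFj : ∀ j : ℤ, j ≤ n → (w ᵥ* ev F (b * uniPt₁ hn0 hX)) ᵥ* gr F r j = (w ᵥ* ev F b) ᵥ* gr F r j +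
          if j = n then ((w ᵥ* ev F b) ᵥ* gr F r 0) ᵥ* F.map (uniDer hn0 hX) else 0 := fun j hj => by
        rw [hF.ev_mul, ← Matrix.vecMul_vecMul w, vecMul_uniPt₁ hn0 hX hF _ hb1 j hj]
      refine ⟨b * uniPt₁ hn0 hX, fun j hj => ?_, ?_, fun j hj0 hjm => ?_⟩
      · rw [hFj j (by omega), if_neg (by omega), add_zero, hb1 j hj]
      · rw [hFj 0 hn0.le, if_neg (by omega), add_zero, hb2]
      · have hjn : j ≤ n := by push_cast at hjm; omega
        have h2 := hFj j hjn
        rw [hsplit, hsplit, hb2] at h2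
        funext i
        have h3 := congrFun h2 (Sum.inl i)
        rw [Pi.add_apply, Sum.elim_inl, Sum.elim_inl] at h3
        rw [h3]
        split_ifs with hjn'
        · subst hjn'
          rw [hFdef, Matrix.fromBlocks_map, Matrix.vecMul_fromBlocks, Sum.elim_inl]
          simp only [Sum.elim_comp_inl, Sum.elim_comp_inr]
          rw [show (0 : Matrix κ κ₀ (GLn N k)).map (uniDer hn0 hX) = 0 from Matrix.map_zero _ (map_zero _),
            Matrix.vecMul_zero, add_zero, hδn]
          simp [hwn]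
        · rw [hb3 j hj0 (by omega)]
          simp
  obtain ⟨R, hR⟩ : ∃ R : ℕ, ∀ j ∈ grs E r, j ≤ R := ⟨((grs E r).sup Int.toNat), fun j hj => by
    have := Finset.le_sup (f := Int.toNat) hj
    omega⟩
  obtain ⟨b, hb1, hb2, hb3⟩ := main R
  refine ⟨b, ?_, ho'fix, fun j hj => ?_, ?_⟩
  · rw [eq_sum_vecMul_gr r hE (base y ᵥ* ev E b), Finset.sum_eq_single 0]
    · exact hcomp0 b hb2
    · intro j hj hj0
      rcases lt_trichotomy j 0 with hlt | heq | hgt
      · have := hb1 j hlt
        rw [hsplit] at this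
        exact funext fun i => congrFun this (Sum.inl i)
      · exact absurd heq hj0
      · exact hb3 j hgt (hR j hj)
    · intro h0
      rw [gr_eq_zero E r h0, Matrix.vecMul_zero]
  · have := hb1 j hj
    rw [hsplit] at this
    exact funext fun i => congrFun this (Sum.inr i)
  · rw [hsplit] at hb2
    exact funext fun i => congrFun hb2 (Sum.inr i)

end

end Groth.Agent.H20HM
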