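import Groth.Prelude.Def_GLin4
import Groth.Prelude.Def_GLin
import Groth.Agent.H20Comod.OrbitClosure
import Groth.Agent.H20Comod.DualMod
import Groth.Agent.H20Comod.Reynolds
import Groth.Agent.H19Grp.HopfReduced
import Mathlib.RingTheory.HopfAlgebra.Convolution

/-!
# Matrix corepresentations and their values at points
-/

set_option autoImplicit false

universe u v w w'

open TensorProduct HopfRep WithConv Matrix

namespace Groth.Agent.H20HM

noncomputable section

variable {k : Type u} [Field k] {A : Type v} [CommRing A] [HopfAlgebra k A]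
  {ι : Type w} [Fintype ι] [DecidableEq ι]

variable (k) in
/-- A matrix corepresentation. -/
structure IsCorep (e : Matrix ι ι A) : Prop where
  comul : ∀ i j, CoalgebraStruct.comul (R := k) (e i j) = ∑ l, e i l ⊗ₜ[k] e l j
  counit : ∀ i j, CoalgebraStruct.counit (R := k) (e i j) = (1 : Matrix ι ι k) i j

variable {B : Type w'} [CommRing B] [Algebra k B]

/-- The value of a matrix of functions at a point. -/
def ev (e : Matrix ι ι A) (g : WithConv (A →ₐ[k] B)) : Matrix ι ι B := e.map g.ofConv

omit [Fintype ι] [DecidableEq ι] in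
theorem ev_apply (e : Matrix ι ι A) (g : WithConv (A →ₐ[k] B)) (i j : ι) : ev e g i j = g.ofConv (e i j) := rfl

/-- The inverse of a point. -/
def cinv (g : WithConv (A →ₐ[k] B)) : WithConv (A →ₐ[k] B) :=
  toConv (g.ofConv.comp (HopfAlgebra.antipodeAlgHom k A))

theorem cinv_mul (g : WithConv (A →ₐ[k] B)) : cinv g * g = 1 := by
  have h : (toConv (AlgHom.id k A))⁻¹ * toConv (AlgHom.id k A) = 1 := inv_mul_cancel _
  have h' := congrArg (fun f : WithConv (A →ₐ[k] A) => toConv (g.ofConv.comp f.ofConv)) h
  rw [AlgHom.comp_convMul_distrib] at h'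
  refine Eq.trans ?_ (h'.trans ?_)
  · rfl
  · exact WithConv.ofConv_injective (AlgHom.ext fun a => g.ofConv.commutes _)

theorem mul_cinv (g : WithConv (A →ₐ[k] B)) : g * cinv g = 1 := by
  have h : toConv (AlgHom.id k A) * (toConv (AlgHom.id k A))⁻¹ = 1 := mul_inv_cancel _
  have h' := congrArg (fun f : WithConv (A →ₐ[k] A) => toConv (g.ofConv.comp f.ofConv)) h
  rw [AlgHom.comp_convMul_distrib] at h'
  refine Eq.trans ?_ (h'.trans ?_)
  · rfl
  · exact WithConv.ofConv_injective (AlgHom.ext fun a => g.ofConv.commutes _)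

theorem eq_cinv_of_mul_eq_one {g h : WithConv (A →ₐ[k] B)} (e : h * g = 1) : h = cinv g :=
  left_inv_eq_right_inv e (mul_cinv g)

theorem cinv_cinv (g : WithConv (A →ₐ[k] B)) : cinv (cinv g) = g :=
  (eq_cinv_of_mul_eq_one (mul_cinv g)).symm

theorem cinv_one : cinv (1 : WithConv (A →ₐ[k] B)) = 1 :=
  (eq_cinv_of_mul_eq_one (one_mul _)).symm

theorem cinv_mul_rev (g h : WithConv (A →ₐ[k] B)) : cinv (g * h) = cinv h * cinv g :=
  (eq_cinv_of_mul_eq_one (by rw [mul_assoc, ← mul_assoc (cinv g), cinv_mul, one_mul, cinv_mul])).symm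

namespace IsCorep

variable {e : Matrix ι ι A} (he : IsCorep k e)
include he

theorem ev_mul (g h : WithConv (A →ₐ[k] B)) : ev e (g * h) = ev e g * ev e h := by
  ext i j
  show (g * h).ofConv (e i j) = _
  rw [show (g * h).ofConv (e i j) = (g * h) (e i j) from rfl, AlgHom.convMul_apply, he.comul, map_sum,
    Matrix.mul_apply]
  exact Finset.sum_congr rfl fun l _ => Algebra.TensorProduct.lift_tmul _ _ _ _ _

theorem ev_one : ev e (1 : WithConv (A →ₐ[k] B)) = 1 := by
  ext i j
  show algebraMap k B (CoalgebraStruct.counit (R := k) (e i j)) = _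
  rw [he.counit, Matrix.one_apply, Matrix.one_apply, apply_ite (algebraMap k B), map_one, map_zero]

theorem ev_inv_mul (g : WithConv (A →ₐ[k] B)) : ev e (cinv g) * ev e g = 1 := by
  rw [← he.ev_mul, cinv_mul, he.ev_one]

theorem ev_mul_inv (g : WithConv (A →ₐ[k] B)) : ev e g * ev e (cinv g) = 1 := by
  rw [← he.ev_mul, mul_cinv, he.ev_one]

theorem mul_antipode : e * e.map (HopfAlgebra.antipode k) = 1 :=
  he.ev_mul_inv (toConv (AlgHom.id k A))

theorem antipode_mul : e.map (HopfAlgebra.antipode k) * e = 1 :=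
  he.ev_inv_mul (toConv (AlgHom.id k A))

theorem comul_antipode (i j : ι) : CoalgebraStruct.comul (R := k) (HopfAlgebra.antipode k (e i j)) =
    ∑ l, HopfAlgebra.antipode k (e l j) ⊗ₜ[k] HopfAlgebra.antipode k (e i l) := by
  classical
  rw [H20Comod.comul_antipode, he.comul, map_sum, map_sum]
  exact Finset.sum_congr rfl fun l _ => by rw [TensorProduct.comm_tmul, TensorProduct.map_tmul]

theorem map {A' : Type*} [CommRing A'] [HopfAlgebra k A'] (π : A →ₐc[k] A') : IsCorep k (e.map π) := by
  refine ⟨fun i j => ?_, fun i j => ?_⟩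
  · show CoalgebraStruct.comul (R := k) (π (e i j)) = _
    rw [← CoalgHomClass.map_comp_comul_apply π (e i j), he.comul, map_sum]
    rfl
  · exact (CoalgHomClass.counit_comp_apply π (e i j)).trans (he.counit i j)

end IsCorep

/-- Points of a bialgebra map. -/
def res {A' : Type*} [CommRing A'] [HopfAlgebra k A'] (π : A →ₐc[k] A') (g : WithConv (A' →ₐ[k] B)) :
    WithConv (A →ₐ[k] B) := toConv (g.ofConv.comp (π : A →ₐ[k] A'))

theorem res_mul {A' : Type*} [CommRing A'] [HopfAlgebra k A'] (π : A →ₐc[k] A') (g h : WithConv (A' →ₐ[k] B)) :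
    res π (g * h) = res π g * res π h := by
  rw [res, AlgHom.convMul_comp_bialgHom_distrib]
  rfl

theorem res_one {A' : Type*} [CommRing A'] [HopfAlgebra k A'] (π : A →ₐc[k] A') :
    res π (1 : WithConv (A' →ₐ[k] B)) = 1 := by
  refine WithConv.ofConv_injective (AlgHom.ext fun a => ?_)
  exact congrArg (algebraMap k B) (CoalgHomClass.counit_comp_apply π a)

theorem res_inv {A' : Type*} [CommRing A'] [HopfAlgebra k A'] (π : A →ₐc[k] A') (g : WithConv (A' →ₐ[k] B)) :
    res π (cinv g) = cinv (res π g) :=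
  eq_cinv_of_mul_eq_one (by rw [← res_mul, cinv_mul, res_one])

omit [Fintype ι] [DecidableEq ι] in
theorem ev_res {A' : Type*} [CommRing A'] [HopfAlgebra k A'] (π : A →ₐc[k] A') (e : Matrix ι ι A)
    (g : WithConv (A' →ₐ[k] B)) : ev e (res π g) = ev (e.map π) g := rfl

omit [Fintype ι] [DecidableEq ι] in
theorem ev_comp {B' : Type*} [CommRing B'] [Algebra k B'] (f : B →ₐ[k] B') (e : Matrix ι ι A)
    (g : WithConv (A →ₐ[k] B)) : ev e (toConv (f.comp g.ofConv)) = (ev e g).map f := rfl

theorem comp_mul {B' : Type*} [CommRing B'] [Algebra k B'] (f : B →ₐ[k] B') (g h : WithConv (A →ₐ[k] B)) :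
    toConv (f.comp (g * h).ofConv) = toConv (f.comp g.ofConv) * toConv (f.comp h.ofConv) := by
  rw [AlgHom.comp_convMul_distrib]

/-- A finite subcomodule of the regular comodule gives a corepresentation moving its vectors. -/
theorem exists_corep_of_subcomod {W : Submodule k A} [Module.Finite k W] (hW : IsSubcomod (k := k) (A := A) W) :
    ∃ (κ : Type) (_ : Fintype κ) (_ : DecidableEq κ) (y : κ → A) (e : Matrix κ κ A), IsCorep k e ∧
      Submodule.span k (Set.range y) = W ∧ ∀ j, CoalgebraStruct.comul (R := k) (y j) = ∑ i, y i ⊗ₜ[k] e i j := by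
  let b := Module.finBasis k W
  obtain ⟨m, hm, hΔ, hε⟩ := H20Comod.exists_matCoeff_of_isSubcomod hW b
  refine ⟨Fin (Module.finrank k W), inferInstance, inferInstance, fun j => (b j : A), m,
    ⟨hΔ, fun i j => (hε i j).trans (Matrix.one_apply).symm⟩, ?_, hm⟩
  rw [show (fun j => (b j : A)) = W.subtype ∘ b from rfl, Set.range_comp, Submodule.span_image, b.span_eq,
    Submodule.map_top, Submodule.range_subtype]

omit [DecidableEq ι] in
/-- The vectors of a corepresentation at products. -/
theorem ev_vec_mul {y : ι → A} {e : Matrix ι ι A}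
    (hy : ∀ j, CoalgebraStruct.comul (R := k) (y j) = ∑ i, y i ⊗ₜ[k] e i j) (g h : WithConv (A →ₐ[k] B)) :
    (fun j => (g * h).ofConv (y j)) = (fun i => g.ofConv (y i)) ᵥ* ev e h := by
  funext j
  rw [show (g * h).ofConv (y j) = (g * h) (y j) from rfl, AlgHom.convMul_apply, hy, map_sum]
  exact Finset.sum_congr rfl fun l _ => Algebra.TensorProduct.lift_tmul _ _ _ _ _

/-- Every corepresentation of a quotient is a summand of the restriction of a corepresentation. -/
theorem exists_extension {A' : Type u} [CommRing A'] [HopfAlgebra k A'] (π : A →ₐc[k] A') (hπ : Function.Surjective π)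
    {α : A' →ₗ[k] k} (hα : H20Comod.IsIntegral α) (h1 : α 1 = 1) {u : Matrix ι ι A'} (hu : IsCorep k u) :
    ∃ (κ : Type w) (_ : Fintype κ) (_ : DecidableEq κ) (U : Matrix κ κ A) (P : Matrix ι κ k) (Q : Matrix κ ι k),
      IsCorep k U ∧ P * Q = 1 ∧ u * P.map (algebraMap k A') = P.map (algebraMap k A') * U.map π := by
  classical
  choose lift hlift using fun p : ι × ι => hπ (u p.1 p.2)
  obtain ⟨W, hWfin, hsW, hW⟩ := H20Comod.exists_finite_subcomod (k := k) (A := A) (V := A) (Set.finite_range lift)
  obtain ⟨κ₀, _, _, y, E, hE, hspan, hy⟩ := exists_corep_of_subcomod hW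
  choose c hc using fun p : ι × ι => (Submodule.mem_span_range_iff_exists_fun k).1
    (hspan.ge (hsW (Set.mem_range_self p)))
  have huc : ∀ a j, u a j = ∑ b, c (a, j) b • π (y b) := fun a j => by
    rw [← hlift (a, j), ← hc (a, j), map_sum]
    exact Finset.sum_congr rfl fun b _ => map_smul π _ _
  let U : Matrix (ι × κ₀) (ι × κ₀) A := fun p q => if p.1 = q.1 then E p.2 q.2 else 0
  let P : Matrix ι (ι × κ₀) k := fun i p => α (π (y p.2) * HopfAlgebra.antipode k (u i p.1))
  let Q : Matrix (ι × κ₀) ι k := fun p j => c (p.1, j) p.2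
  refine ⟨ι × κ₀, inferInstance, inferInstance, U, P, Q, ⟨fun p q => ?_, fun p q => ?_⟩, ?_, ?_⟩
  · show CoalgebraStruct.comul (R := k) (if p.1 = q.1 then E p.2 q.2 else 0) = _
    rw [Fintype.sum_prod_type, Finset.sum_eq_single p.1]
    · split_ifs with h
      · rw [hE.comul]
        exact Finset.sum_congr rfl fun l _ => by simp [U, h]
      · simp [U, h]
    · intro l _ hl
      exact Finset.sum_eq_zero fun l' _ => by simp [U, Ne.symm hl]
    · simp
  · show CoalgebraStruct.counit (R := k) (if p.1 = q.1 then E p.2 q.2 else 0) = _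
    rw [apply_ite (CoalgebraStruct.counit (R := k) (A := A)), hE.counit, map_zero, Matrix.one_apply, Matrix.one_apply]
    by_cases h : p.1 = q.1
    · simp [h, Prod.ext_iff]
    · simp [h, Prod.ext_iff]
  · ext i j
    rw [Matrix.mul_apply, Fintype.sum_prod_type]
    have h : ∑ a, ∑ b, P i (a, b) * Q (a, b) j = α (∑ a, u a j * HopfAlgebra.antipode k (u i a)) := by
      rw [map_sum]
      refine Finset.sum_congr rfl fun a _ => ?_
      rw [huc a j, Finset.sum_mul, map_sum]
      exact Finset.sum_congr rfl fun b _ => by simp [P, Q, smul_mul_assoc, mul_comm]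
    rw [h, show ∑ a, u a j * HopfAlgebra.antipode k (u i a) = (1 : Matrix ι ι A') i j by
      rw [← hu.antipode_mul, Matrix.mul_apply]
      exact Finset.sum_congr rfl fun a _ => mul_comm _ _]
    rw [Matrix.one_apply, Matrix.one_apply, apply_ite α, h1, map_zero]
  · have hy' : ∀ b, CoalgebraStruct.comul (R := k) (π (y b)) = ∑ i, π (y i) ⊗ₜ[k] π (E i b) := fun b => by
      rw [← CoalgHomClass.map_comp_comul_apply π (y b), hy, map_sum]
      rfl
    refine Matrix.ext fun m p => ?_
    obtain ⟨a, b⟩ := p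
    have key : ∀ i, algebraMap k A' (P i (a, b)) =
        ∑ c, ∑ l, P l (a, c) • (π (E c b) * HopfAlgebra.antipode k (u i l)) := fun i => by
      rw [Algebra.algebraMap_eq_smul_one, show P i (a, b) • (1 : A') =
        α (π (y b) * HopfAlgebra.antipode k (u i a)) • (1 : A') from rfl,
        ← hα (π (y b) * HopfAlgebra.antipode k (u i a)), Bialgebra.comul_mul, hy', hu.comul_antipode, Finset.sum_mul_sum]
      simp only [Algebra.TensorProduct.tmul_mul_tmul, map_sum, H20Comod.sliceL_tmul, P]
    have hinv : ∀ l, ∑ i, u m i * HopfAlgebra.antipode k (u i l) = (1 : Matrix ι ι A') m l := fun l => by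
      rw [← hu.mul_antipode, Matrix.mul_apply]
      rfl
    simp only [Matrix.mul_apply, Matrix.map_apply]
    rw [Fintype.sum_prod_type, Finset.sum_eq_single a (fun a' _ ha' => Finset.sum_eq_zero fun b' _ => by simp [U, ha'])
      (by simp)]
    calc ∑ i, u m i * algebraMap k A' (P i (a, b))
        = ∑ i, ∑ c, ∑ l, u m i * (P l (a, c) • (π (E c b) * HopfAlgebra.antipode k (u i l))) :=
          Finset.sum_congr rfl fun i _ => by rw [key i, Finset.mul_sum]; exact Finset.sum_congr rfl fun c _ => by rw [Finset.mul_sum]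
      _ = ∑ c, ∑ l, P l (a, c) • (π (E c b) * (1 : Matrix ι ι A') m l) := by
          rw [Finset.sum_comm]
          refine Finset.sum_congr rfl fun c _ => ?_
          rw [Finset.sum_comm]
          refine Finset.sum_congr rfl fun l _ => ?_
          rw [← hinv l, Finset.mul_sum, Finset.smul_sum]
          exact Finset.sum_congr rfl fun i _ => by rw [mul_smul_comm]; congr 1; ring
      _ = ∑ c, P m (a, c) • π (E c b) := by
          refine Finset.sum_congr rfl fun c _ => ?_
          rw [Finset.sum_eq_single m (fun l _ hl => by simp [Matrix.one_apply, Ne.symm hl]) (by simp)]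
          simp
      _ = _ := Finset.sum_congr rfl fun c _ => by simp [U, Algebra.smul_def]

end

end Groth.Agent.H20HM
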