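import Groth.Agent.H20Comod.Invariants
import Groth.Prelude.Def_GLin
import Mathlib.RingTheory.MvPolynomial.Homogeneous

/-!
Linear actions on polynomial rings respect the grading.
-/

set_option autoImplicit false

universe u v w

open TensorProduct HopfRep MvPolynomial
open Groth.Agent.H20Comod

namespace Groth.Agent.H20HM

noncomputable section

variable {k : Type u} [Field k] {A : Type v} [CommRing A] [HopfAlgebra k A] {ι : Type w}

theorem homogeneousComponent_mul_of_isHomogeneous {r : MvPolynomial ι k} {b : ℕ} (hr : r.IsHomogeneous b)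
    (a : MvPolynomial ι k) (m : ℕ) :
    homogeneousComponent m (a * r) = if b ≤ m then homogeneousComponent (m - b) a * r else 0 := by
  conv_lhs => rw [← sum_homogeneousComponent a, Finset.sum_mul, map_sum]
  have hterm : ∀ j, homogeneousComponent m (homogeneousComponent j a * r) =
      if m = j + b then homogeneousComponent j a * r else 0 := fun j =>
    homogeneousComponent_of_mem ((homogeneousComponent_isHomogeneous j a).mul hr)
  rw [Finset.sum_congr rfl fun j _ => hterm j]
  by_cases hbm : b ≤ m
  · rw [if_pos hbm, Finset.sum_eq_single (m - b)]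
    · rw [if_pos (by omega)]
    · intro j _ hj
      rw [if_neg (by omega)]
    · intro hmem
      rw [if_pos (by omega), homogeneousComponent_eq_zero _ _ (by simp at hmem; omega), zero_mul]
  · rw [if_neg hbm]
    exact Finset.sum_eq_zero fun j _ => if_neg (by omega)

variable [Fintype ι] [Comod k A (MvPolynomial ι k)] [GLin.IsCoactAlg k A (MvPolynomial ι k)]

theorem mul_mem_range_homogeneous {m n : ℕ} {x y : MvPolynomial ι k ⊗[k] A}
    (hx : x ∈ LinearMap.range ((homogeneousSubmodule ι k m).subtype.rTensor A))
    (hy : y ∈ LinearMap.range ((homogeneousSubmodule ι k n).subtype.rTensor A)) :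
    x * y ∈ LinearMap.range ((homogeneousSubmodule ι k (m + n)).subtype.rTensor A) := by
  obtain ⟨x, rfl⟩ := hx
  obtain ⟨y, rfl⟩ := hy
  induction x using TensorProduct.induction_on with
  | zero => simp
  | tmul p a =>
    induction y using TensorProduct.induction_on with
    | zero => simp
    | tmul q c =>
      exact ⟨(⟨(p : MvPolynomial ι k) * q, p.2.mul q.2⟩ : homogeneousSubmodule ι k (m + n)) ⊗ₜ[k] (a * c),
        by simp [Algebra.TensorProduct.tmul_mul_tmul]⟩
    | add u w hu hw => simp only [map_add, mul_add]; exact add_mem hu hw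
  | add u w hu hw => simp only [map_add, add_mul]; exact add_mem hu hw

theorem isSubcomod_homogeneous (hlin : GLin.IsLinear k A ι) (n : ℕ) :
    IsSubcomod (k := k) (A := A) (homogeneousSubmodule ι k n) := by
  classical
  have key : ∀ n, ∀ e : ι →₀ ℕ, e.degree = n →
      Comod.coact (k := k) (A := A) (monomial e (1 : k)) ∈
        LinearMap.range ((homogeneousSubmodule ι k n).subtype.rTensor A) := by
    intro n
    induction n with
    | zero =>
      intro e he
      rw [(Finsupp.degree_eq_zero_iff e).1 he, ← C_apply, C_1, GLin.IsCoactAlg.coact_one (k := k)]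
      exact ⟨(⟨1, isHomogeneous_one ι k⟩ : homogeneousSubmodule ι k 0) ⊗ₜ[k] 1, rfl⟩
    | succ n ih =>
      intro e he
      obtain ⟨i, hi⟩ : ∃ i, e i ≠ 0 := by
        by_contra h
        push Not at h
        rw [show e = 0 from Finsupp.ext h] at he
        simp at he
      set e' := e - Finsupp.single i 1
      have hee : e' + Finsupp.single i 1 = e :=
        tsub_add_cancel_of_le (Finsupp.single_le_iff.2 (Nat.one_le_iff_ne_zero.2 hi))
      have hd : e'.degree = n := by
        rw [← hee, map_add, Finsupp.degree_single] at he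
        omega
      rw [← hee, show monomial (e' + Finsupp.single i 1) (1 : k) = monomial e' 1 * X i by
        rw [X, monomial_mul, mul_one], GLin.IsCoactAlg.coact_mul]
      refine mul_mem_range_homogeneous (ih e' hd) ?_
      obtain ⟨m, hm⟩ := hlin i
      rw [hm]
      exact Submodule.sum_mem _ fun j _ =>
        ⟨(⟨X j, isHomogeneous_X k j⟩ : homogeneousSubmodule ι k 1) ⊗ₜ[k] m j, rfl⟩
  intro f hf
  rw [f.as_sum, map_sum]
  refine Submodule.sum_mem _ fun e he => ?_
  have hdeg : e.degree = n := by
    rw [Finsupp.degree_eq_weight_one]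
    exact hf (mem_support_iff.1 he)
  rw [show monomial e (f.coeff e) = f.coeff e • monomial e (1 : k) by rw [smul_monomial, smul_eq_mul, mul_one],
    map_smul]
  exact Submodule.smul_mem _ _ (key n e hdeg)

theorem actL_isHomogeneous (hlin : GLin.IsLinear k A ι) (φ : A →ₗ[k] k) {n : ℕ} {f : MvPolynomial ι k}
    (hf : f.IsHomogeneous n) : (actL φ f).IsHomogeneous n :=
  actL_mem_of_isSubcomod (isSubcomod_homogeneous hlin n) φ hf

theorem homogeneousComponent_actL (hlin : GLin.IsLinear k A ι) (φ : A →ₗ[k] k) (n : ℕ) (f : MvPolynomial ι k) :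
    homogeneousComponent n (actL φ f) = actL φ (homogeneousComponent n f) := by
  conv_lhs => rw [← sum_homogeneousComponent f, map_sum, map_sum]
  have hterm : ∀ j, homogeneousComponent n (actL φ (homogeneousComponent j f)) =
      if n = j then actL φ (homogeneousComponent j f) else 0 := fun j =>
    homogeneousComponent_of_mem (actL_isHomogeneous hlin φ (homogeneousComponent_isHomogeneous j f))
  rw [Finset.sum_congr rfl fun j _ => hterm j, Finset.sum_ite_eq]
  split_ifs with h
  · rfl
  · rw [homogeneousComponent_eq_zero _ _ (by simpa using h), map_zero]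

theorem coact_eq_iff_forall_actL {V : Type w} [AddCommGroup V] [Module k V] [Comod k A V] (v : V) :
    Comod.coact (k := k) (A := A) v = v ⊗ₜ[k] (1 : A) ↔ ∀ φ : A →ₗ[k] k, actL φ v = φ 1 • v := by
  refine ⟨fun h φ => by rw [actL_apply, h, sliceR_tmul], fun h => ?_⟩
  refine sub_eq_zero.1 (eq_zero_of_forall_sliceR fun φ => ?_)
  rw [map_sub, ← actL_apply, h, sliceR_tmul, sub_self]

theorem homogeneousComponent_mem_invariants (hlin : GLin.IsLinear k A ι) {f : MvPolynomial ι k}
    (hf : f ∈ GLin.invariants k A (MvPolynomial ι k)) (n : ℕ) :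
    homogeneousComponent n f ∈ GLin.invariants k A (MvPolynomial ι k) := by
  rw [GLin.mem_invariants_iff, coact_eq_iff_forall_actL] at hf ⊢
  intro φ
  rw [← homogeneousComponent_actL hlin, hf, map_smul]

end

end Groth.Agent.H20HM
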