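import Groth.Agent.H20HM.OneParam
import Groth.Agent.H20HM.GradedAction
import Groth.Agent.H20Comod.Stability
import Groth.Agent.S12544
import Groth.Agent.S16480

/-!
# The Hilbert–Mumford criterion for linear actions of linearly reductive groups
-/

set_option autoImplicit false

universe u

open TensorProduct HopfRep WithConv Matrix CoordGrp


namespace Groth.Agent.H20HM

noncomputable section

variable {k : Type u} [Field k] {A : Type u} [CommRing A] [HopfAlgebra k A]
  {ι : Type u} [Fintype ι] [Comod k A (MvPolynomial ι k)] [GLin.IsCoactAlg k A (MvPolynomial ι k)]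

theorem exists_matrix [DecidableEq ι] (hlin : GLin.IsLinear k A ι) : ∃ e : Matrix ι ι A, IsCorep k e ∧
    ∀ (v : ι → k) (i : ι), GLin.orbitHom k A (GLin.vecPt k ι v) (MvPolynomial.X i) = ∑ j, v j • e j i := by
  choose m hm using hlin
  let g : ι → MvPolynomial ι k →ₗ[k] k := fun i => MvPolynomial.lcoeff k (Finsupp.single i 1)
  have hg : ∀ i j, g i (MvPolynomial.X j) = if i = j then 1 else 0 := fun i j => by
    simp [g, MvPolynomial.coeff_X', eq_comm, Finsupp.single_eq_single_iff]
  refine ⟨fun j i => m i j, ⟨fun i j => H20Comod.comul_matCoeff _ g hg (fun a b => m b a) hm i j,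
    fun i j => (H20Comod.counit_matCoeff _ g hg (fun a b => m b a) hm i j).trans Matrix.one_apply.symm⟩, fun v i => ?_⟩
  show Algebra.TensorProduct.lid k A (Algebra.TensorProduct.map (GLin.vecPt k ι v) (AlgHom.id k A)
    (Comod.coact (k := k) (A := A) (MvPolynomial.X i))) = _
  rw [hm, map_sum, map_sum]
  exact Finset.sum_congr rfl fun j _ => by simp

variable {e : Matrix ι ι A}
  (horb : ∀ (v : ι → k) (i : ι), GLin.orbitHom k A (GLin.vecPt k ι v) (MvPolynomial.X i) = ∑ j, v j • e j i)
include horb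

theorem apply_orbitHom_vecPt {B : Type u} [CommRing B] [Algebra k B] (q : A →ₐ[k] B) (v : ι → k) (i : ι) :
    q (GLin.orbitHom k A (GLin.vecPt k ι v) (MvPolynomial.X i)) =
      ((fun j => algebraMap k B (v j)) ᵥ* ev e (toConv q)) i := by
  rw [horb, map_sum]
  exact Finset.sum_congr rfl fun j _ => by rw [map_smul, Algebra.smul_def]; rfl

theorem actPt_vecPt (g : A →ₐ[k] k) (v : ι → k) :
    GLin.actPt k g (GLin.vecPt k ι v) = GLin.vecPt k ι (v ᵥ* ev e (toConv g)) := MvPolynomial.algHom_ext fun i => by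
  show g (GLin.orbitHom k A (GLin.vecPt k ι v) (MvPolynomial.X i)) = _
  rw [apply_orbitHom_vecPt horb, GLin.vecPt, MvPolynomial.aeval_X]
  rfl

variable [DecidableEq ι] (he : IsCorep k e)

omit horb [DecidableEq ι] in
theorem vecPt_eq (z : MvPolynomial ι k →ₐ[k] k) : z = GLin.vecPt k ι fun i => z (MvPolynomial.X i) :=
  MvPolynomial.algHom_ext fun i => by rw [GLin.vecPt, MvPolynomial.aeval_X]

variable [IsAlgClosed k] [Algebra.FiniteType k A]

/-- The points of an orbit closure. -/
def closureSet (w : ι → k) : Set (ι → k) := {c | GLin.InOrbitClosure k A (GLin.vecPt k ι w) (GLin.vecPt k ι c)}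

omit horb [DecidableEq ι] [IsAlgClosed k] [Algebra.FiniteType k A] in
theorem self_mem_closureSet (w : ι → k) : w ∈ closureSet (A := A) w := H20Comod.OrbitPrimes.ker_orbitHom_le_ker _

theorem closureSet_stable (w c : ι → k) (hc : c ∈ closureSet (A := A) w) (q : WithConv (A →ₐ[k] k)) :
    c ᵥ* ev e q ∈ closureSet (A := A) w :=
  H20Comod.Stability.inOrbitClosure_trans hc
    (H20Comod.Stability.inOrbitClosure_of_exists ⟨q.ofConv, (actPt_vecPt horb q.ofConv c).symm⟩)

omit horb [DecidableEq ι] [IsAlgClosed k] [Algebra.FiniteType k A] in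
theorem closureSet_closed (w z : ι → k) (hz : InClos (closureSet (A := A) w) z) : z ∈ closureSet (A := A) w := by
  intro f hf
  refine hz f fun c hc => ?_
  exact hc hf

variable [CharZero k]

include he in
/-- The data produced by an integral point. -/
theorem exists_lamOrbit (hG : IsLinearlyReductive k A) :
    ∃ (N : ℕ) (π : GLn N k →ₐc[k] A), Function.Surjective π ∧
      ∀ (K : Type u) [Field K] [Algebra k K] (V : ValuationSubring K) (ψ : V →+* k),
        RingHom.ker ψ = IsLocalRing.maximalIdeal V → (∀ c : k, ∃ h : algebraMap k K c ∈ V, ψ ⟨_, h⟩ = c) →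
        ∀ (Ξ : A →ₐ[k] K) (v z w : ι → k), z ∈ closureSet (A := A) w →
        (∀ i, ∃ h : Ξ (GLin.orbitHom k A (GLin.vecPt k ι v) (MvPolynomial.X i)) ∈ V, ψ ⟨_, h⟩ = z i) →
        ∃ (lam : A →ₐc[k] LaurentPolynomial k) (p : ι → Polynomial k), (fun i => (p i).coeff 0) ∈ closureSet (A := A) w ∧
          (∀ i, Polynomial.toLaurent (p i) = GLin.lamOrbit k A lam (GLin.vecPt k ι v) (MvPolynomial.X i)) ∧
          (SGA3t2b.IsTrivialBialgHom lam → ∀ i j, Ξ (π (GLn.X i j)) ∈ V) := by
  obtain ⟨N, π, hπ⟩ := Groth.Agent.S16480.result k A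
  obtain ⟨α, hα, h1⟩ := H20Comod.exists_isIntegral_of_isLinearlyReductive hG
  refine ⟨N, π, hπ, fun K _ _ V ψ hker halg Ξ v z w hz hint => ?_⟩
  obtain ⟨lam, p, hp0, hp, htriv⟩ := exists_lam hπ hα h1 he (closureSet_stable horb w) (closureSet_closed w)
    V ψ hker halg (toConv Ξ) v z hz fun i => by
      obtain ⟨h, h'⟩ := hint i
      have e1 := apply_orbitHom_vecPt horb Ξ v i
      exact ⟨e1 ▸ h, (congrArg ψ (Subtype.ext e1.symm)).trans h'⟩
  exact ⟨lam, p, hp0, fun i => (hp i).trans (apply_orbitHom_vecPt horb (lam : A →ₐ[k] LaurentPolynomial k) v i).symm, htriv⟩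

include he in
theorem exists_lam_of_inOrbitClosure (hG : IsLinearlyReductive k A) {v z : ι → k} (hz : z ∈ closureSet (A := A) v) :
    ∃ (lam : A →ₐc[k] LaurentPolynomial k) (p : ι → Polynomial k), (fun i => (p i).coeff 0) ∈ closureSet (A := A) z ∧
      ∀ i, Polynomial.toLaurent (p i) = GLin.lamOrbit k A lam (GLin.vecPt k ι v) (MvPolynomial.X i) := by
  obtain ⟨N, π, hπ, H⟩ := exists_lamOrbit horb he hG
  set f := GLin.orbitHom k A (GLin.vecPt k ι v)
  set P := RingHom.ker (GLin.vecPt k ι z)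
  haveI : P.IsPrime := RingHom.ker_isPrime _
  obtain ⟨p, hp, hpP⟩ := Ideal.exists_minimalPrimes_le (I := RingHom.ker f) (J := P) hz
  obtain ⟨q, hq, -, hqp⟩ := Ideal.exists_comap_eq_of_mem_minimalPrimes (f := f.toRingHom) (I := ⊥) p hp
  haveI : q.IsPrime := hq
  let K := FractionRing (A ⧸ q)
  let Ξ : A →ₐ[k] K := (IsScalarTower.toAlgHom k (A ⧸ q) K).comp (Ideal.Quotient.mkₐ k q)
  let θ : MvPolynomial ι k →ₐ[k] K := Ξ.comp f
  have hθ : ∀ F, θ F = 0 → GLin.vecPt k ι z F = 0 := fun F hF => by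
    refine hpP ?_
    rw [← hqp]
    show f F ∈ q
    rw [← Ideal.Quotient.eq_zero_iff_mem]
    exact (IsFractionRing.injective (A ⧸ q) K) (hF.trans (map_zero _).symm)
  let eθ := Ideal.quotientKerEquivRange θ
  let φ : θ.range →ₐ[k] k := (Ideal.Quotient.liftₐ (RingHom.ker θ) (GLin.vecPt k ι z) hθ).comp eθ.symm.toAlgHom
  have hφ : ∀ F, φ ⟨θ F, F, rfl⟩ = GLin.vecPt k ι z F := fun F => by
    have : eθ.symm ⟨θ F, F, rfl⟩ = Ideal.Quotient.mk _ F := eθ.injective (by rw [AlgEquiv.apply_symm_apply]; rfl)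
    show Ideal.Quotient.liftₐ (RingHom.ker θ) (GLin.vecPt k ι z) hθ (eθ.symm ⟨θ F, F, rfl⟩) = _
    rw [this]
    rfl
  obtain ⟨V, ψ, hext, hker, halg⟩ := H20Forms.exists_place θ.range φ
  obtain ⟨lam, pp, h0, hp', -⟩ := H K V ψ hker halg Ξ v z z (self_mem_closureSet z) fun i => by
    obtain ⟨h, h'⟩ := hext ⟨θ (MvPolynomial.X i), _, rfl⟩
    rw [hφ, GLin.vecPt, MvPolynomial.aeval_X] at h'
    exact ⟨h, h'⟩
  exact ⟨lam, pp, h0, hp'⟩

include he in
theorem exists_lam_of_not_hasFiniteStab (hG : IsLinearlyReductive k A) {v : ι → k}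
    (hfin : ¬ GLin.HasFiniteStab k A (GLin.vecPt k ι v)) :
    ∃ (lam : A →ₐc[k] LaurentPolynomial k) (p : ι → Polynomial k), ¬ SGA3t2b.IsTrivialBialgHom lam ∧
      ∀ i, Polynomial.toLaurent (p i) = GLin.lamOrbit k A lam (GLin.vecPt k ι v) (MvPolynomial.X i) := by
  classical
  obtain ⟨N, π, hπ, H⟩ := exists_lamOrbit horb he hG
  set I := GLin.stabIdeal k A (GLin.vecPt k ι v) with hI
  haveI : Algebra.FiniteType k (A ⧸ I) :=
    Algebra.FiniteType.of_surjective (Ideal.Quotient.mkₐ k I) Ideal.Quotient.mk_surjective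
  haveI : IsNoetherianRing (A ⧸ I) := Algebra.FiniteType.isNoetherianRing k _
  obtain ⟨q, hq, hqmax⟩ : ∃ q : Ideal (A ⧸ I), q.IsPrime ∧ ¬ q.IsMaximal := by
    by_contra h
    push Not at h
    haveI : Ring.KrullDimLE 0 (A ⧸ I) := Ring.krullDimLE_zero_iff.2 h
    haveI : IsArtinianRing (A ⧸ I) :=
      isArtinianRing_iff_isNoetherianRing_krullDimLE_zero.2 ⟨inferInstance, inferInstance⟩
    exact hfin ((Module.finite_iff_isArtinianRing k (A ⧸ I)).2 inferInstance)
  let D := (A ⧸ I) ⧸ q
  let K := FractionRing D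
  let pr : A →ₐ[k] D := (Ideal.Quotient.mkₐ k q).comp (Ideal.Quotient.mkₐ k I)
  have hpr : Function.Surjective pr := Ideal.Quotient.mk_surjective.comp Ideal.Quotient.mk_surjective
  let Ξ : A →ₐ[k] K := (IsScalarTower.toAlgHom k D K).comp pr
  let g : GP k N K := toConv (Ξ.comp (π : GLn N k →ₐ[k] A))
  obtain ⟨i, j, htr⟩ : ∃ i j, Transcendental k (glMat g i j) := by
    by_contra h
    simp only [Transcendental, not_exists, not_not] at h
    refine hqmax (Ideal.Quotient.maximal_of_isField q ?_)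
    have hk : ∀ i j, glMat g i j ∈ (algebraMap k K).range := fun i j =>
      minpoly.mem_range_of_degree_eq_one k _
        (IsAlgClosed.degree_eq_one_of_irreducible k (minpoly.irreducible (h i j).isIntegral))
    choose M hM using hk
    have hMmap : (Matrix.of M).map (algebraMap k K) = glMat g := Matrix.ext hM
    have hdet : IsUnit (Matrix.of M).det := by
      rw [isUnit_iff_ne_zero]
      intro h0
      refine (isUnit_det_glMat g).ne_zero ?_
      rw [← hMmap, ← RingHom.mapMatrix_apply, ← RingHom.map_det, h0, map_zero]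
    have hg : g = toConv ((Algebra.ofId k K).comp (glPt (Matrix.of M) hdet).ofConv) := glMat_ext (by
      rw [glMat_comp (Algebra.ofId k K), glMat_glPt]
      exact hMmap.symm)
    have hsurj : Function.Surjective (algebraMap k D) := fun x => by
      obtain ⟨a, rfl⟩ := hpr x
      obtain ⟨f, rfl⟩ := hπ a
      refine ⟨(glPt (Matrix.of M) hdet).ofConv f, IsFractionRing.injective D K ?_⟩
      rw [← IsScalarTower.algebraMap_apply]
      exact (congrArg (fun z : GP k N K => z.ofConv f) hg).symm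
    exact (RingEquiv.ofBijective (algebraMap k D) ⟨(algebraMap k D).injective, hsurj⟩).symm.toMulEquiv.isField
      (Field.toIsField k)
  set x := glMat g i j
  have hx0 : x ≠ 0 := fun h => htr (h ▸ isAlgebraic_zero)
  have htr' : Transcendental k x⁻¹ := fun h => htr (inv_inv x ▸ h.inv)
  have hinj : Function.Injective (Polynomial.aeval x⁻¹ : Polynomial k →ₐ[k] K) := transcendental_iff_injective.1 htr'
  let ex := AlgEquiv.ofInjective (Polynomial.aeval x⁻¹ : Polynomial k →ₐ[k] K) hinj
  let φ : (Polynomial.aeval x⁻¹ : Polynomial k →ₐ[k] K).range →ₐ[k] k := (Polynomial.aeval (0 : k)).comp ex.symm.toAlgHom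
  obtain ⟨V, ψ, hext, hker, halg⟩ := H20Forms.exists_place _ φ
  obtain ⟨hxV, hψx⟩ := hext ⟨x⁻¹, Polynomial.X, Polynomial.aeval_X _⟩
  have hφ0 : ψ ⟨x⁻¹, hxV⟩ = 0 := by
    refine hψx.trans ?_
    have : ex.symm ⟨x⁻¹, Polynomial.X, Polynomial.aeval_X _⟩ = Polynomial.X :=
      ex.injective (Subtype.ext (by rw [AlgEquiv.apply_symm_apply]; exact (Polynomial.aeval_X _).symm))
    show Polynomial.aeval (0 : k) (ex.symm ⟨x⁻¹, _⟩) = 0
    rw [this, Polynomial.aeval_X]
  have hxnV : x ∉ V := fun h => by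
    have h1 : ψ (⟨x, h⟩ * ⟨x⁻¹, hxV⟩) = 1 := by
      rw [show (⟨x, h⟩ * ⟨x⁻¹, hxV⟩ : V) = 1 from Subtype.ext (mul_inv_cancel₀ hx0), map_one]
    rw [map_mul, hφ0, mul_zero] at h1
    exact zero_ne_one h1
  obtain ⟨lam, p, -, hp, htriv⟩ := H K V ψ hker halg Ξ v v v (self_mem_closureSet v) fun m => by
    have h1 : MvPolynomial.X m - MvPolynomial.C (v m) ∈ RingHom.ker (GLin.vecPt k ι v) := by simp [RingHom.mem_ker]
    have h2 : pr (GLin.orbitHom k A (GLin.vecPt k ι v) (MvPolynomial.X m - MvPolynomial.C (v m))) = 0 := by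
      have h3 : GLin.orbitHom k A (GLin.vecPt k ι v) (MvPolynomial.X m - MvPolynomial.C (v m)) ∈ I :=
        Ideal.mem_map_of_mem _ h1
      show Ideal.Quotient.mk q (Ideal.Quotient.mk I _) = 0
      rw [Ideal.Quotient.eq_zero_iff_mem.2 h3, map_zero]
    have h4 : Ξ (GLin.orbitHom k A (GLin.vecPt k ι v) (MvPolynomial.X m)) = algebraMap k K (v m) := by
      rw [← sub_eq_zero]
      have h5 : Ξ (GLin.orbitHom k A (GLin.vecPt k ι v) (MvPolynomial.X m - MvPolynomial.C (v m))) = 0 := by
        show algebraMap D K (pr _) = 0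
        rw [h2, map_zero]
      rw [map_sub, map_sub, ← MvPolynomial.algebraMap_eq, AlgHom.commutes, AlgHom.commutes] at h5
      exact h5
    obtain ⟨hc, hc'⟩ := halg (v m)
    exact ⟨h4 ▸ hc, (congrArg ψ (Subtype.ext h4)).trans hc'⟩
  exact ⟨lam, p, fun ht => hxnV (htriv ht i j), hp⟩

omit horb [DecidableEq ι] [IsAlgClosed k] [Algebra.FiniteType k A] [CharZero k] in
/-- The value at zero of the shifted orbit. -/
theorem coeff_zero_of_isMu {lam : A →ₐc[k] LaurentPolynomial k} {v : ι → k} {p : ι → Polynomial k}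
    (hp : ∀ i, Polynomial.toLaurent (p i) = GLin.lamOrbit k A lam (GLin.vecPt k ι v) (MvPolynomial.X i))
    {m : ℤ} (hm : GLin.IsMu k A lam v m) (h0 : 0 ≤ m) : m = 0 ∧ ∃ i, (p i).coeff 0 ≠ 0 := by
  obtain ⟨h, hh, hne⟩ := hm
  have hX : ∀ i, h (MvPolynomial.X i) = Polynomial.X ^ m.toNat * p i := fun i => by
    refine Polynomial.toLaurent_injective ?_
    have e1 := AlgHom.congr_fun hh (MvPolynomial.X i)
    simp only [AlgHom.comp_apply, Polynomial.toLaurentAlg_apply, GLin.shiftedOrbit, MvPolynomial.aeval_X] at e1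
    rw [e1, map_mul, Polynomial.toLaurent_X_pow, hp, Int.toNat_of_nonneg h0]
  by_contra hcon
  refine hne (MvPolynomial.algHom_ext fun i => ?_)
  rw [AlgHom.comp_apply, hX, MvPolynomial.aeval_X, map_mul, map_pow, Polynomial.aeval_X,
    ← Polynomial.coeff_zero_eq_aeval_zero]
  rcases Nat.eq_zero_or_pos m.toNat with hz | hz
  · push Not at hcon
    rw [hcon (by omega) i, mul_zero]
  · rw [zero_pow hz.ne', zero_mul]

omit horb [DecidableEq ι] [IsAlgClosed k] [Algebra.FiniteType k A] [CharZero k] in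
theorem aeval_mul_of_isHomogeneous {B : Type u} [CommRing B] [Algebra k B] (s : B) (o : ι → B) {F : MvPolynomial ι k}
    {d : ℕ} (hF : F.IsHomogeneous d) :
    MvPolynomial.aeval (fun i => s * o i) F = s ^ d * MvPolynomial.aeval o F := by
  rw [F.as_sum, map_sum, map_sum, Finset.mul_sum]
  refine Finset.sum_congr rfl fun v hv => ?_
  have hdeg : ∑ i ∈ v.support, v i = d := by
    rw [← Finsupp.degree_apply, Finsupp.degree_eq_weight_one]
    exact hF (MvPolynomial.mem_support_iff.1 hv)
  simp only [MvPolynomial.aeval_monomial, Finsupp.prod, mul_pow, Finset.prod_mul_distrib, Finset.prod_pow_eq_pow_sum, hdeg]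
  ring

omit [DecidableEq ι] in
include horb in
theorem orbitHom_zero : ∀ F : MvPolynomial ι k,
    GLin.orbitHom k A (GLin.vecPt k ι 0) F = algebraMap k A (GLin.vecPt k ι 0 F) := fun F =>
  AlgHom.congr_fun (show GLin.orbitHom k A (GLin.vecPt k ι 0) = (Algebra.ofId k A).comp (GLin.vecPt k ι 0) from
    MvPolynomial.algHom_ext fun i => by simp [horb]) F

omit [DecidableEq ι] in
theorem eq_zero_of_mem_closureSet {c : ι → k} (hc : c ∈ closureSet (A := A) (0 : ι → k)) : c = 0 := funext fun i => by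
  have h : GLin.vecPt k ι c (MvPolynomial.X i) = 0 := hc (by
    show GLin.orbitHom k A (GLin.vecPt k ι 0) (MvPolynomial.X i) = 0
    rw [orbitHom_zero horb]
    simp)
  simpa using h

include he in
/-- A nullform is detected by a one-parameter subgroup. -/
theorem exists_isMu_neg_of_isNullform (hG : IsLinearlyReductive k A) (hlin : GLin.IsLinear k A ι) {v : ι → k}
    (hv : v ≠ 0) (hnull : GLin.IsNullform k A v) :
    ∃ (lam : A →ₐc[k] LaurentPolynomial k) (m : ℤ), GLin.IsMu k A lam v m ∧ m < 0 := by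
  obtain ⟨α, hα, h1⟩ := H20Comod.exists_isIntegral_of_isLinearlyReductive hG
  have hinv : ∀ F ∈ GLin.invariants k A (MvPolynomial ι k), GLin.vecPt k ι v F = GLin.vecPt k ι 0 F := by
    intro F hF
    have key : ∀ d, MvPolynomial.aeval v (MvPolynomial.homogeneousComponent d F) =
        MvPolynomial.aeval (0 : ι → k) (MvPolynomial.homogeneousComponent d F) := by
      intro d
      rcases Nat.eq_zero_or_pos d with rfl | hd
      · rw [MvPolynomial.homogeneousComponent_zero, MvPolynomial.aeval_C, MvPolynomial.aeval_C]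
      · rw [MvPolynomial.aeval_eq_eval, hnull _ (homogeneousComponent_mem_invariants hlin hF d) d hd
          (MvPolynomial.homogeneousComponent_isHomogeneous d F)]
        have := aeval_mul_of_isHomogeneous (B := k) 0 (0 : ι → k) (MvPolynomial.homogeneousComponent_isHomogeneous d F)
        simp only [zero_mul, zero_pow hd.ne'] at this
        exact this.symm
    rw [← MvPolynomial.sum_homogeneousComponent F, map_sum, map_sum]
    exact Finset.sum_congr rfl fun d _ => key d
  have hclosed : GLin.IsClosedOrbit k A (GLin.vecPt k ι (0 : ι → k)) :=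
    H20Comod.OrbitPrimes.isClosedOrbit_of_forall _ fun z hz => by
      refine ⟨Bialgebra.counitAlgHom k A, ?_⟩
      rw [H20Comod.actPt_one, vecPt_eq z]
      refine congrArg (GLin.vecPt k ι) (eq_zero_of_mem_closureSet horb ?_)
      show GLin.InOrbitClosure k A _ _
      rw [← vecPt_eq z]
      exact hz
  have h0 : (0 : ι → k) ∈ closureSet (A := A) v := H20Comod.Stability.inOrbitClosure_of_isClosedOrbit hα h1 hclosed hinv
  obtain ⟨lam, p, hp0, hp⟩ := exists_lam_of_inOrbitClosure horb he hG h0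
  obtain ⟨m, hm, -⟩ := Groth.Agent.S12544.result k A ι hlin lam v hv
  refine ⟨lam, m, hm, lt_of_not_ge fun hle => ?_⟩
  obtain ⟨-, i, hi⟩ := coeff_zero_of_isMu hp hm hle
  exact hi (congrFun (eq_zero_of_mem_closureSet horb hp0) i)

omit horb [DecidableEq ι] [IsAlgClosed k] [Algebra.FiniteType k A] [CharZero k] in
theorem not_isMu_neg {v : ι → k} (hss : GLin.IsSemistableVec k A v) (lam : A →ₐc[k] LaurentPolynomial k) {m : ℤ}
    (hm : GLin.IsMu k A lam v m) : 0 ≤ m := by
  by_contra hneg
  obtain ⟨h, hh, -⟩ := hm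
  refine hss fun F hF d hd hhom => ?_
  let o : ι → LaurentPolynomial k := fun i => GLin.lamOrbit k A lam (GLin.vecPt k ι v) (MvPolynomial.X i)
  have e1 : Polynomial.toLaurent (h F) =
      LaurentPolynomial.T m ^ d * algebraMap k (LaurentPolynomial k) (MvPolynomial.eval v F) := by
    refine (AlgHom.congr_fun hh F).trans ?_
    rw [GLin.shiftedOrbit, aeval_mul_of_isHomogeneous _ o hhom]
    congr 1
    rw [show MvPolynomial.aeval o = GLin.lamOrbit k A lam (GLin.vecPt k ι v) from
      MvPolynomial.algHom_ext fun i => MvPolynomial.aeval_X _ _, GLin.lamOrbit, AlgHom.comp_apply,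
      H20Comod.orbitHom_of_invariant _ hF, AlgHom.commutes]
    rfl
  have hlt : (d : ℤ) * m < 0 := mul_neg_of_pos_of_neg (by omega) (not_le.1 hneg)
  have e2 := congrArg (fun P : LaurentPolynomial k => P.coeff ((d : ℤ) * m)) e1
  rw [coeff_toLaurent_neg _ hlt, LaurentPolynomial.T_pow] at e2
  have e3 : (LaurentPolynomial.T ((d : ℤ) * m) * algebraMap k (LaurentPolynomial k) (MvPolynomial.eval v F)).coeff
      ((d : ℤ) * m) = MvPolynomial.eval v F := (coeff_T_smul _ _ _).trans (if_pos rfl)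
  exact (e2.trans e3).symm

include he in
/-- Stable vectors have positive numerical function. -/
theorem isMu_pos {v : ι → k} (hst : GLin.IsStableVec k A v) {lam : A →ₐc[k] LaurentPolynomial k}
    (hlam : ¬ SGA3t2b.IsTrivialBialgHom lam) {m : ℤ} (hm : GLin.IsMu k A lam v m) : 0 < m := by
  classical
  by_contra hle
  obtain ⟨h, hh, -⟩ := hm
  let p : ι → Polynomial k := fun i => Polynomial.X ^ (-m).toNat * h (MvPolynomial.X i)
  have hp : ∀ i, Polynomial.toLaurent (p i) = GLin.lamOrbit k A lam (GLin.vecPt k ι v) (MvPolynomial.X i) := fun i => by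
    have e1 := AlgHom.congr_fun hh (MvPolynomial.X i)
    simp only [AlgHom.comp_apply, Polynomial.toLaurentAlg_apply, GLin.shiftedOrbit, MvPolynomial.aeval_X] at e1
    rw [map_mul, Polynomial.toLaurent_X_pow, e1, ← _root_.mul_assoc, ← LaurentPolynomial.T_add,
      Int.toNat_of_nonneg (by omega), neg_add_cancel, LaurentPolynomial.T_zero, _root_.one_mul]
  clear_value p
  let y : ι → k := fun i => (p i).coeff 0
  have hy : GLin.InOrbitClosure k A (GLin.vecPt k ι v) (GLin.vecPt k ι y) := fun f hf => by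
    have h1 : Polynomial.toLaurentAlg.comp (MvPolynomial.aeval p) = GLin.lamOrbit k A lam (GLin.vecPt k ι v) :=
      MvPolynomial.algHom_ext fun i => by
        rw [AlgHom.comp_apply, MvPolynomial.aeval_X, Polynomial.toLaurentAlg_apply, hp]
    have h2 : MvPolynomial.aeval p f = 0 := Polynomial.toLaurent_injective (by
      rw [map_zero]
      refine (AlgHom.congr_fun h1 f).trans ?_
      rw [GLin.lamOrbit, AlgHom.comp_apply, show GLin.orbitHom k A (GLin.vecPt k ι v) f = 0 from hf, map_zero])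
    have h3 : (Polynomial.aeval (0 : k)).comp (MvPolynomial.aeval p) = GLin.vecPt k ι y :=
      MvPolynomial.algHom_ext fun i => by
        rw [AlgHom.comp_apply, MvPolynomial.aeval_X, GLin.vecPt, MvPolynomial.aeval_X,
          ← Polynomial.coeff_zero_eq_aeval_zero]
    rw [RingHom.mem_ker, ← h3, AlgHom.comp_apply, h2, map_zero]
  obtain ⟨g, hg⟩ := H20Comod.exists_actPt_eq_of_isClosedOrbit hst.1 hy
  have hfy : H20Comod.Stability.FinStab A (GLin.vecPt k ι y) :=
    hg ▸ H20Comod.Stability.finStab_actPt ((H20Comod.Stability.hasFiniteStab_iff _).1 hst.2) g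
  let q : kˣ → WithConv (A →ₐ[k] k) := fun t => toConv ((evT t).comp (lam : A →ₐ[k] LaurentPolynomial k))
  have hq : ∀ t s, q t * q s = q (t * s) := fun t s => by
    have := AlgHom.convMul_comp_bialgHom_distrib (toConv (evT t)) (toConv (evT s)) lam
    rw [evT_mul_evT] at this
    exact (WithConv.ofConv_injective this).symm
  have hval : ∀ (t : kˣ) i, (p i).eval (t : k) = (v ᵥ* ev e (q t)) i := fun t i => by
    rw [← evT_toLaurent, hp, GLin.lamOrbit, AlgHom.comp_apply, ← AlgHom.comp_apply, apply_orbitHom_vecPt horb]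
    rfl
  have hfix : ∀ s, GLin.actPt k (q s).ofConv (GLin.vecPt k ι y) = GLin.vecPt k ι y := fun s => by
    rw [actPt_vecPt horb]
    congr 1
    funext i
    have hpoly : (p i).comp (Polynomial.C (s : k) * Polynomial.X) = ∑ j, p j * Polynomial.C (ev e (q s) j i) := by
      refine Polynomial.eq_of_infinite_eval_eq _ _
        ((Set.Finite.infinite_compl (Set.finite_singleton (0 : k))).mono fun t (ht : t ≠ 0) => ?_)
      show Polynomial.eval t _ = Polynomial.eval t _
      rw [Polynomial.eval_comp, Polynomial.eval_mul, Polynomial.eval_C, Polynomial.eval_X, Polynomial.eval_finsetSum]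
      have h1 : (p i).eval ((s : k) * t) = (v ᵥ* ev e (q (Units.mk0 t ht * s))) i := by
        rw [← hval, Units.val_mul, Units.val_mk0, _root_.mul_comm]
      rw [h1, ← hq, he.ev_mul, ← Matrix.vecMul_vecMul]
      exact Finset.sum_congr rfl fun j _ => by rw [Polynomial.eval_mul, Polynomial.eval_C, ← hval]; rfl
    have h0 := congrArg (Polynomial.eval 0) hpoly
    simp only [Polynomial.eval_comp, Polynomial.eval_mul, Polynomial.eval_C, Polynomial.eval_X, mul_zero,
      Polynomial.eval_finsetSum, ← Polynomial.coeff_zero_eq_eval_zero] at h0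
    exact h0.symm
  refine hlam fun a => ?_
  obtain ⟨c, hc⟩ := exists_const_of_finite (P := lam a) ((hfy.image fun g => g a).subset (by
    rintro _ ⟨t, rfl⟩
    exact ⟨(q t).ofConv, hfix t, rfl⟩))
  have h1 := CoalgHomClass.counit_comp_apply lam a
  rw [hc, ← Bialgebra.counitAlgHom_apply, AlgHom.commutes] at h1
  rw [hc, ← h1]
  rfl

include he in
/-- Positive numerical function forces stability. -/
theorem isStableVec_of_forall (hG : IsLinearlyReductive k A) (hlin : GLin.IsLinear k A ι) {v : ι → k} (hv : v ≠ 0)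
    (H : ∀ lam : A →ₐc[k] LaurentPolynomial k, ¬ SGA3t2b.IsTrivialBialgHom lam →
      ∀ m : ℤ, GLin.IsMu k A lam v m → 0 < m) : GLin.IsStableVec k A v := by
  have key : ∀ (lam : A →ₐc[k] LaurentPolynomial k) (p : ι → Polynomial k),
      (∀ i, Polynomial.toLaurent (p i) = GLin.lamOrbit k A lam (GLin.vecPt k ι v) (MvPolynomial.X i)) →
        SGA3t2b.IsTrivialBialgHom lam := fun lam p hp => by
    by_contra hnt
    obtain ⟨m, hm, -⟩ := Groth.Agent.S12544.result k A ι hlin lam v hv
    have hpos := H lam hnt m hm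
    exact hpos.ne' (coeff_zero_of_isMu hp hm hpos.le).1
  have hfin : GLin.HasFiniteStab k A (GLin.vecPt k ι v) := by
    by_contra hnf
    obtain ⟨lam, p, hnt, hp⟩ := exists_lam_of_not_hasFiniteStab horb he hG hnf
    exact hnt (key lam p hp)
  refine ⟨?_, hfin⟩
  obtain ⟨y₀, hy₀, hvy₀⟩ := H20Comod.Stability.exists_isClosedOrbit_inOrbitClosure (A := A) (GLin.vecPt k ι v)
  rw [vecPt_eq y₀] at hy₀ hvy₀
  obtain ⟨lam, p, hp0, hp⟩ := exists_lam_of_inOrbitClosure horb he hG hvy₀
  have htriv := key lam p hp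
  have hpv : (fun i => (p i).coeff 0) = v := funext fun i => by
    rw [← coeff_toLaurent_natCast, hp, GLin.lamOrbit, AlgHom.comp_apply]
    show (lam _).coeff _ = _
    rw [htriv, H20Comod.counit_orbitHom, GLin.vecPt, MvPolynomial.aeval_X]
    show (AddMonoidAlgebra.single 0 (v i) : LaurentPolynomial k).coeff _ = _
    simp
  rw [hpv] at hp0
  obtain ⟨g, hg⟩ := H20Comod.exists_actPt_eq_of_isClosedOrbit hy₀ hp0
  obtain ⟨γ, hγ⟩ := H20Comod.eq_actPt_of_actPt_eq ((H20Comod.actPt_one (A := A) (GLin.vecPt k ι v)).trans hg)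
  refine H20Comod.OrbitPrimes.isClosedOrbit_of_forall _ fun w hw => ?_
  obtain ⟨g', hg'⟩ := H20Comod.exists_actPt_eq_of_isClosedOrbit hy₀ (H20Comod.Stability.inOrbitClosure_trans hp0 hw)
  exact ⟨_, by rw [hg', hγ, H20Comod.actPt_actPt]⟩

end

end Groth.Agent.H20HM
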