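import Groth.Agent.H20HM.Attract
import Groth.Agent.H20Forms.Place
import Groth.Prelude.Def_SGA3t2b
import Mathlib.RingTheory.HopfAlgebra.MonoidAlgebra

/-!
# One-parameter subgroups from integral translates
-/

set_option autoImplicit false

universe u v w w'

open TensorProduct HopfRep WithConv Matrix CoordGrp

namespace Groth.Agent.H20HM

noncomputable section

variable {k : Type u} [Field k]

/-- Evaluations of Laurent polynomials form a one-parameter group. -/
theorem evT_mul_evT (t s : kˣ) :
    (toConv (evT t) * toConv (evT s) : WithConv (LaurentPolynomial k →ₐ[k] k)) = toConv (evT (t * s)) := by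
  refine WithConv.ofConv_injective (AddMonoidAlgebra.algHom_ext (fun j => ?_) (Subsingleton.elim _ _))
  show (toConv (evT t) * toConv (evT s)).ofConv (LaurentPolynomial.T j) = evT (t * s) (LaurentPolynomial.T j)
  rw [show ∀ x : WithConv (LaurentPolynomial k →ₐ[k] k), x.ofConv (LaurentPolynomial.T j) = x (LaurentPolynomial.T j)
    from fun _ => rfl, AlgHom.convMul_apply, LaurentPolynomial.comul_T, Algebra.TensorProduct.lift_tmul]
  show evT t (LaurentPolynomial.T j) * evT s (LaurentPolynomial.T j) = _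
  rw [evT_T, evT_T, evT_T, Units.val_mul, mul_zpow]

/-- A Laurent polynomial with finitely many values is constant. -/
theorem exists_const_of_finite [Infinite k] {P : LaurentPolynomial k} (h : (Set.range fun t => evT t P).Finite) :
    ∃ c : k, P = algebraMap k _ c := by
  have h0 : ∏ c ∈ h.toFinset, (P - algebraMap k (LaurentPolynomial k) c) = 0 := eq_zero_of_forall_evT fun t => by
    rw [map_prod]
    refine Finset.prod_eq_zero (h.mem_toFinset.2 ⟨t, rfl⟩) ?_
    rw [map_sub, AlgHom.commutes]
    exact sub_self _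
  obtain ⟨c, -, hc⟩ := Finset.prod_eq_zero_iff.1 h0
  exact ⟨c, sub_eq_zero.1 hc⟩

theorem coeff_vecMul_map {σ : Type w} [Fintype σ] {τ : Type w'} (Y : σ → LaurentPolynomial k) (M : Matrix σ τ k)
    (b : τ) (j : ℤ) :
    ((Y ᵥ* M.map (algebraMap k (LaurentPolynomial k))) b).coeff j = ((fun i => (Y i).coeff j) ᵥ* M) b := by
  simp only [Matrix.vecMul, dotProduct, Matrix.map_apply, AddMonoidAlgebra.coeff_sum, Finsupp.finsetSum_apply]
  refine Finset.sum_congr rfl fun i _ => ?_
  rw [mul_comm, ← Algebra.smul_def, AddMonoidAlgebra.coeff_smul, Finsupp.smul_apply, smul_eq_mul, mul_comm]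

variable {N : ℕ}

/-- The conjugate one-parameter subgroup of `GL_N`. -/
def conjPt (a : GP k N k) (r : Fin N → ℤ) : GP k N (LaurentPolynomial k) :=
  upL a * lamPt (tChar k) r * upL (cinv a)

theorem coeff_conjPt {κ : Type w} [Fintype κ] [DecidableEq κ] {U : Matrix κ κ (GLn N k)} (hU : IsCorep k U)
    (a : GP k N k) (r : Fin N → ℤ) (x : κ → k) (b : κ) (j : ℤ) :
    (((fun i => algebraMap k (LaurentPolynomial k) (x i)) ᵥ* ev U (conjPt a r)) b).coeff j =
      (((x ᵥ* ev U a) ᵥ* gr U r j) ᵥ* ev U (cinv a)) b := by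
  rw [conjPt, hU.ev_mul, hU.ev_mul, ← Matrix.vecMul_vecMul, ← Matrix.vecMul_vecMul, vecMul_upL, ev_upL, coeff_vecMul_map]
  congr 2
  funext i
  exact coeff_vecMul_lamPt U r _ i j

theorem comp_conjPt {B : Type v} [CommRing B] [Algebra k B] (φ : LaurentPolynomial k →ₐ[k] B) (a : GP k N k)
    (r : Fin N → ℤ) : glMat (toConv (φ.comp (conjPt a r).ofConv)) =
      (glMat a).map (algebraMap k B) * Matrix.diagonal (fun i => φ (LaurentPolynomial.T (r i))) *
        (glMat (cinv a)).map (algebraMap k B) := by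
  have h : ∀ g : GP k N k, (glMat (upL g)).map φ = (glMat g).map (algebraMap k B) := fun g => by
    ext i j
    exact φ.commutes _
  rw [glMat_comp, conjPt, glMat_mul, glMat_mul, Matrix.map_mul, Matrix.map_mul, h, h, glMat_lamPt,
    Matrix.diagonal_map (map_zero _)]
  rfl

theorem eq_zero_of_conjPt_eq_one (a : GP k N k) (r : Fin N → ℤ) (h : conjPt a r = 1) : r = 0 := by
  have h1 : lamPt (k := k) (tChar k) r = 1 :=
    calc lamPt (k := k) (tChar k) r = upL (cinv a * a) * lamPt (tChar k) r * upL (cinv a * a) := by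
          rw [cinv_mul, upL_one, _root_.one_mul, _root_.mul_one]
      _ = upL (cinv a) * conjPt a r * upL a := by rw [conjPt, upL_mul]; simp only [_root_.mul_assoc]
      _ = 1 := by rw [h, _root_.mul_one, ← upL_mul, cinv_mul, upL_one]
  funext i
  have h2 := congrFun (congrFun ((glMat_lamPt (tChar k) r).symm.trans ((congrArg glMat h1).trans glMat_one)) i) i
  rw [Matrix.diagonal_apply_eq, Matrix.one_apply_eq, tChar_val, ← LaurentPolynomial.T_zero] at h2
  have h3 := congrArg LaurentPolynomial.degree h2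
  rw [LaurentPolynomial.degree_T, LaurentPolynomial.degree_T] at h3
  exact WithBot.coe_injective h3

section

variable {A : Type u} [CommRing A] [HopfAlgebra k A] {π : GLn N k →ₐc[k] A} (hπ : Function.Surjective π)

include hπ in
/-- A conjugate one-parameter subgroup killing the ideal of the subgroup is a one-parameter subgroup of it. -/
theorem exists_bialgHom (a : GP k N k) (r : Fin N → ℤ) (hker : ∀ f, π f = 0 → (conjPt a r).ofConv f = 0) :
    ∃ lam : A →ₐc[k] LaurentPolynomial k, res π (toConv (lam : A →ₐ[k] LaurentPolynomial k)) = conjPt a r := by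
  let l : A →ₐ[k] LaurentPolynomial k := AlgHom.liftOfSurjective (π : GLn N k →ₐ[k] A) hπ (conjPt a r).ofConv hker
  have hl : ∀ f, l (π f) = (conjPt a r).ofConv f := fun f =>
    AlgHom.congr_fun (AlgHom.liftOfSurjective_comp (π : GLn N k →ₐ[k] A) hπ (conjPt a r).ofConv hker) f
  have hinv : ∀ (B : Type u) [CommRing B] [Algebra k B],
      (glMat a).map (algebraMap k B) * (glMat (cinv a)).map (algebraMap k B) = 1 := fun B _ _ => by
    rw [← Matrix.map_mul, ← glMat_mul, mul_cinv, glMat_one, Matrix.map_one _ (map_zero _) (map_one _)]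
  have hcounit : (Bialgebra.counitAlgHom k (LaurentPolynomial k)).comp l = Bialgebra.counitAlgHom k A := by
    refine AlgHom.ext fun x => ?_
    obtain ⟨f, rfl⟩ := hπ x
    have h : (toConv ((Bialgebra.counitAlgHom k (LaurentPolynomial k)).comp (conjPt a r).ofConv) : GP k N k) = 1 :=
      glMat_ext (by
        rw [comp_conjPt, glMat_one]
        simp only [Bialgebra.counitAlgHom_apply, LaurentPolynomial.counit_T, Matrix.diagonal_one, Matrix.mul_one, hinv])
    refine ((congrArg (Bialgebra.counitAlgHom k (LaurentPolynomial k)) (hl f)).trans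
      (congrArg (fun z : GP k N k => z.ofConv f) h)).trans ?_
    exact (CoalgHomClass.counit_comp_apply π f).symm
  let iL : LaurentPolynomial k →ₐ[k] LaurentPolynomial k ⊗[k] LaurentPolynomial k := Algebra.TensorProduct.includeLeft
  let iR : LaurentPolynomial k →ₐ[k] LaurentPolynomial k ⊗[k] LaurentPolynomial k := Algebra.TensorProduct.includeRight
  have hcomul : (Algebra.TensorProduct.map l l).comp (Bialgebra.comulAlgHom k A) =
      (Bialgebra.comulAlgHom k (LaurentPolynomial k)).comp l := by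
    refine AlgHom.ext fun x => ?_
    obtain ⟨f, rfl⟩ := hπ x
    have h : (toConv ((Bialgebra.comulAlgHom k (LaurentPolynomial k)).comp (conjPt a r).ofConv) :
        GP k N (LaurentPolynomial k ⊗[k] LaurentPolynomial k)) =
        toConv (iL.comp (conjPt a r).ofConv) * toConv (iR.comp (conjPt a r).ofConv) := glMat_ext (by
      rw [glMat_mul, comp_conjPt, comp_conjPt, comp_conjPt]
      simp only [_root_.mul_assoc]
      rw [← _root_.mul_assoc ((glMat (cinv a)).map _) ((glMat a).map _), ← Matrix.map_mul, ← glMat_mul, cinv_mul, glMat_one,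
        Matrix.map_one _ (map_zero _) (map_one _), _root_.one_mul, ← _root_.mul_assoc (Matrix.diagonal _),
        Matrix.diagonal_mul_diagonal]
      congr 3
      funext i
      simp [iL, iR])
    rw [AlgHom.comp_apply, AlgHom.comp_apply, Bialgebra.comulAlgHom_apply, Bialgebra.comulAlgHom_apply, hl,
      ← CoalgHomClass.map_comp_comul_apply π f]
    refine Eq.trans ?_ (congrArg (fun z : GP k N _ => z.ofConv f) h).symm
    rw [show ∀ g g' : GP k N (LaurentPolynomial k ⊗[k] LaurentPolynomial k), (g * g').ofConv f = (g * g') f from fun _ _ => rfl,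
      AlgHom.convMul_apply]
    generalize CoalgebraStruct.comul (R := k) f = z
    induction z using TensorProduct.induction_on with
    | zero => simp
    | tmul x y => simp [hl, iL, iR]
    | add x y hx hy => simp only [map_add, hx, hy]
  exact ⟨BialgHom.ofAlgHom l hcounit hcomul, WithConv.ofConv_injective (AlgHom.ext hl)⟩

end

/-! ### The main construction -/

variable [IsAlgClosed k] [CharZero k] {A : Type u} [CommRing A] [HopfAlgebra k A] [Algebra.FiniteType k A]
  {π : GLn N k →ₐc[k] A} (hπ : Function.Surjective π) {α : A →ₗ[k] k} (hα : H20Comod.IsIntegral α) (h1 : α 1 = 1)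

omit [IsAlgClosed k] [CharZero k] [Algebra.FiniteType k A] in
theorem intertwine {ι : Type w} [Fintype ι] {e : Matrix ι ι A} {κ : Type w'} [Fintype κ]
    {U : Matrix κ κ (GLn N k)} {P : Matrix ι κ k}
    (h : e * P.map (algebraMap k A) = P.map (algebraMap k A) * U.map π) {B : Type v} [CommRing B] [Algebra k B]
    (q : WithConv (A →ₐ[k] B)) (x : ι → k) :
    ((fun i => algebraMap k B (x i)) ᵥ* ev e q) ᵥ* P.map (algebraMap k B) =
      (fun b => algebraMap k B ((x ᵥ* P) b)) ᵥ* ev U (res π q) := by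
  have h' := congrArg (fun M => M.map q.ofConv) h
  have hP : (P.map (algebraMap k A)).map q.ofConv = P.map (algebraMap k B) := by
    ext i b
    exact q.ofConv.commutes _
  simp only [Matrix.map_mul, hP] at h'
  rw [Matrix.vecMul_vecMul, show ev e q = e.map q.ofConv from rfl, h', ← Matrix.vecMul_vecMul]
  congr 1
  funext b
  simp [Matrix.vecMul, dotProduct]

include hπ hα h1 in
/-- An integral translate with limit in a closed stable set gives a one-parameter subgroup with limit in it. -/
theorem exists_lam {ι : Type w} [Fintype ι] [DecidableEq ι] {e : Matrix ι ι A} (he : IsCorep k e) {C : Set (ι → k)}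
    (hCG : ∀ c ∈ C, ∀ q : WithConv (A →ₐ[k] k), c ᵥ* ev e q ∈ C) (hC : ∀ z, InClos C z → z ∈ C)
    {K : Type u} [Field K] [Algebra k K] (V : ValuationSubring K) (ψ : V →+* k)
    (hker : RingHom.ker ψ = IsLocalRing.maximalIdeal V) (halg : ∀ c : k, ∃ h : algebraMap k K c ∈ V, ψ ⟨_, h⟩ = c)
    (Ξ : WithConv (A →ₐ[k] K)) (v z : ι → k) (hz : z ∈ C)
    (hint : ∀ i, ∃ h : ((fun j => algebraMap k K (v j)) ᵥ* ev e Ξ) i ∈ V, ψ ⟨_, h⟩ = z i) :
    ∃ (lam : A →ₐc[k] LaurentPolynomial k) (p : ι → Polynomial k), (fun i => (p i).coeff 0) ∈ C ∧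
      (∀ i, Polynomial.toLaurent (p i) =
        ((fun j => algebraMap k (LaurentPolynomial k) (v j)) ᵥ* ev e (toConv (lam : A →ₐ[k] LaurentPolynomial k))) i) ∧
      (SGA3t2b.IsTrivialBialgHom lam → ∀ i j, Ξ.ofConv (π (GLn.X i j)) ∈ V) := by
  classical
  obtain ⟨κ₀, _, _, y, E, hE, hy, hgen⟩ := exists_generators hπ hα h1
  obtain ⟨κ, _, _, U, P, Q, hU, hPQ, heP⟩ := exists_extension π hπ hα h1 he
  set F := Matrix.fromBlocks E 0 0 U with hFdef
  have hF : IsCorep k F := hE.fromBlocks hU
  have hPk : ∀ (x : ι → k) (q : WithConv (A →ₐ[k] k)), (x ᵥ* P) ᵥ* ev U (res π q) = (x ᵥ* ev e q) ᵥ* P := fun x q => by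
    have := intertwine heP q x
    simp only [Algebra.algebraMap_self, RingHom.id_apply, RingHom.coe_id, Matrix.map_id] at this
    exact this.symm
  let C' : Set (κ → k) := (fun c => c ᵥ* P) '' C
  have hC'G : ∀ c ∈ C', ∀ q : WithConv (A →ₐ[k] k), c ᵥ* ev U (res π q) ∈ C' := by
    rintro _ ⟨c, hc, rfl⟩ q
    exact ⟨_, hCG c hc q, (hPk c q).symm⟩
  have hC' : ∀ x, InClos C' x → x ∈ C' := fun x hx => by
    have hxQ : InClos C (x ᵥ* Q) := hx.map Q fun c ⟨c₀, hc₀, hcc⟩ => by
      rw [← hcc, Matrix.vecMul_vecMul, hPQ, Matrix.vecMul_one]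
      exact hc₀
    refine ⟨_, hC _ hxQ, funext fun b => ?_⟩
    let f : MvPolynomial κ k := MvPolynomial.X b - ∑ l, MvPolynomial.C ((Q * P) l b) * MvPolynomial.X l
    have hf : ∀ x' : κ → k, MvPolynomial.eval x' f = x' b - ((x' ᵥ* Q) ᵥ* P) b := fun x' => by
      rw [Matrix.vecMul_vecMul]
      simp [f, Matrix.vecMul, dotProduct, mul_comm]
    have h := hx f fun c ⟨c₀, _, hcc⟩ => by
      rw [hf, ← hcc, Matrix.vecMul_vecMul c₀, hPQ, Matrix.vecMul_one, sub_self]
    rw [hf, sub_eq_zero] at h
    exact h.symm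
  set S := orbitSet y E U C' with hSdef
  set v' := v ᵥ* P with hv'
  let g : GP k N K := res π Ξ
  have hbaseK : (fun j => algebraMap k K (base y j)) ᵥ* ev E g = fun j => algebraMap k K (base y j) := by
    have hπy : ∀ j, π (y j) = algebraMap k A (base y j) := fun j => eq_of_forall_pt (k := k) fun q => by
      rw [AlgHom.commutes, Algebra.algebraMap_self, RingHom.id_apply]
      have h := (hgen.le (Algebra.subset_adjoin (Set.mem_range_self j)) : y j ∈ Rleft π) q 1
      rw [_root_.mul_one] at h
      exact h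
    have h := ev_vec_mul hy (1 : GP k N K) g
    rw [_root_.one_mul] at h
    refine Eq.trans ?_ (h.symm.trans (funext fun j => ?_))
    · rfl
    · show Ξ.ofConv (π (y j)) = _
      rw [hπy, AlgHom.commutes]
  have hint' : ∀ i, ∃ h : ((fun j => algebraMap k K (Sum.elim (base y) v' j)) ᵥ* ev F g) i ∈ V,
      ψ ⟨_, h⟩ = Sum.elim (base y) (z ᵥ* P) i := by
    have hsplit : (fun j => algebraMap k K (Sum.elim (base y) v' j)) ᵥ* ev F g =
        Sum.elim (fun j => algebraMap k K (base y j))
          (((fun j => algebraMap k K (v j)) ᵥ* ev e Ξ) ᵥ* P.map (algebraMap k K)) := by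
      rw [show (fun j => algebraMap k K (Sum.elim (base y) v' j)) =
        Sum.elim (fun j => algebraMap k K (base y j)) (fun j => algebraMap k K (v' j)) from
          funext fun j => by cases j <;> rfl, hFdef, vecMul_ev_fromBlocks, hbaseK, intertwine heP]
    rw [hsplit]
    rintro (j | b)
    · exact halg _
    · let xV : ι → V := fun i => ⟨_, (hint i).1⟩
      let PV : ι → V := fun i => ⟨_, (halg (P i b)).1⟩
      have hval : ((∑ i, xV i * PV i : V) : K) =
          (((fun j => algebraMap k K (v j)) ᵥ* ev e Ξ) ᵥ* P.map (algebraMap k K)) b := by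
        rw [AddSubmonoidClass.coe_finsetSum]
        rfl
      refine ⟨by rw [Sum.elim_inr, ← hval]; exact SetLike.coe_mem _, Eq.trans (congrArg ψ (Subtype.ext hval.symm)) ?_⟩
      rw [map_sum]
      refine Finset.sum_congr rfl fun i _ => ?_
      rw [map_mul, (hint i).2, (halg (P i b)).2]
  obtain ⟨a, r, hlow, hzero, hr⟩ := exists_limit_of_integral hF
    (fun z hz g => vecMul_mem_orbitSet hE hU hz g)
    (fun z hz => mem_orbitSet_of_inClos hπ hα h1 hy hgen hU hE hC'G hC' hz) V ψ hker halg g
    (Sum.elim (base y) v') (Sum.elim (base y) (z ᵥ* P))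
    ⟨1, z ᵥ* P, ⟨z, hz, rfl⟩, by rw [hE.ev_one, hU.ev_one, Matrix.vecMul_one, Matrix.vecMul_one]⟩ hint'
  obtain ⟨h, c', hc', hzero⟩ := hzero
  obtain ⟨b, hbase, hfix, hvlow, hvzero⟩ := exists_straight hπ hα h1 hE hy hgen hU r v' (c' ᵥ* ev U h) h a hlow hzero
  have hΛbase : (fun j => algebraMap k (LaurentPolynomial k) (base y j)) ᵥ* ev E (conjPt b r) =
      fun j => algebraMap k (LaurentPolynomial k) (base y j) := by
    funext i
    refine AddMonoidAlgebra.ext (Finsupp.ext fun j => ?_)
    rw [coeff_conjPt hE, hbase]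
    show _ = (AddMonoidAlgebra.single 0 (base y i)).coeff j
    rw [AddMonoidAlgebra.coeff_single, Finsupp.single_apply]
    by_cases hj : j = 0
    · subst hj
      rw [if_pos rfl]
      have h0 : (base y ᵥ* ev E h) ᵥ* gr E r 0 = base y ᵥ* ev E h := by
        conv_rhs => rw [eq_sum_vecMul_gr r hE (base y ᵥ* ev E h)]
        rw [Finset.sum_eq_single 0 (fun l _ hl => hfix l hl) (fun h0 => by rw [gr_eq_zero E r h0, Matrix.vecMul_zero])]
      rw [h0, ← hbase, Matrix.vecMul_vecMul, hE.ev_mul_inv, Matrix.vecMul_one]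
    · rw [if_neg (Ne.symm hj), hfix j hj, Matrix.zero_vecMul, Pi.zero_apply]
  have hker' : ∀ f, π f = 0 → (conjPt b r).ofConv f = 0 := fun f hf => eq_zero_of_forall_evT fun t => by
    have hin : InG π (toConv ((evT t).comp (conjPt b r).ofConv)) := by
      refine inG_of_vecMul_eq hπ hα h1 hy hgen _ ?_
      funext i
      have h' := congrArg (evT t) (congrFun hΛbase i)
      rw [AlgHom.commutes, Algebra.algebraMap_self, RingHom.id_apply] at h'
      refine Eq.trans ?_ h'
      simp [ev_comp, Matrix.vecMul, dotProduct, Algebra.algebraMap_self]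
      exact Finset.sum_congr rfl fun x _ => by
        rw [show (evT t) (LaurentPolynomial.C (base y x)) = base y x from (evT t).commutes _]
    obtain ⟨q, hq⟩ := hin
    have h' := congrArg (fun z : GP k N k => z.ofConv f) hq
    refine h'.symm.trans ?_
    show q.ofConv (π f) = 0
    rw [hf, map_zero]
  obtain ⟨lam, hlam⟩ := exists_bialgHom hπ b r hker'
  have horb : (fun j => algebraMap k (LaurentPolynomial k) (v j)) ᵥ* ev e (toConv (lam : A →ₐ[k] LaurentPolynomial k)) =
      ((fun j => algebraMap k (LaurentPolynomial k) (v' j)) ᵥ* ev U (conjPt b r)) ᵥ* Q.map (algebraMap k _) := by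
    rw [← hlam, ← intertwine heP, Matrix.vecMul_vecMul _ (P.map _), ← Matrix.map_mul, hPQ,
      Matrix.map_one _ (map_zero _) (map_one _), Matrix.vecMul_one]
  have hcoef : ∀ i j, (((fun j => algebraMap k (LaurentPolynomial k) (v j)) ᵥ*
      ev e (toConv (lam : A →ₐ[k] LaurentPolynomial k))) i).coeff j =
        ((((v' ᵥ* ev U b) ᵥ* gr U r j) ᵥ* ev U (cinv b)) ᵥ* Q) i := fun i j => by
    rw [horb, coeff_vecMul_map]
    congr 2
    funext l
    exact coeff_conjPt hU b r v' l j
  have hpol : ∀ i, ∃ p : Polynomial k, Polynomial.toLaurent p =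
      ((fun j => algebraMap k (LaurentPolynomial k) (v j)) ᵥ* ev e (toConv (lam : A →ₐ[k] LaurentPolynomial k))) i :=
    fun i => exists_polynomial fun j hj => by rw [hcoef, hvlow j hj, Matrix.zero_vecMul, Matrix.zero_vecMul]; rfl
  choose p hp using hpol
  refine ⟨lam, p, ?_, hp, fun htriv => ?_⟩
  · have hc : (fun i => (p i).coeff 0) = ((c' ᵥ* ev U h) ᵥ* ev U (cinv b)) ᵥ* Q := funext fun i => by
      rw [← coeff_toLaurent_natCast, hp, hcoef, Nat.cast_zero, hvzero]
    obtain ⟨q, hq⟩ : InG π (h * cinv b) := inG_of_vecMul_eq hπ hα h1 hy hgen _ (by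
      rw [hE.ev_mul, ← Matrix.vecMul_vecMul, ← hbase, Matrix.vecMul_vecMul, hE.ev_mul_inv, Matrix.vecMul_one])
    obtain ⟨c₀, hc₀, hcc⟩ := hC'G c' hc' q
    rw [hc, Matrix.vecMul_vecMul c', ← hU.ev_mul, ← hq, ← hcc, Matrix.vecMul_vecMul, hPQ, Matrix.vecMul_one]
    exact hc₀
  · have hone : toConv (lam : A →ₐ[k] LaurentPolynomial k) = 1 := WithConv.ofConv_injective (AlgHom.ext htriv)
    rw [hone, res_one] at hlam
    exact fun i j => hr (eq_zero_of_conjPt_eq_one b r hlam.symm) i j

end

end Groth.Agent.H20HM
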