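import Groth.Agent.H20HM.Points
import Groth.Agent.H20Comod.HilbertFG
import Groth.Agent.H20Comod.Invariants
import Mathlib.LinearAlgebra.Matrix.Block

/-!
# A linearly reductive subgroup of `GL_N` is the stabiliser of a vector with closed orbit
-/

set_option autoImplicit false

universe u w

open TensorProduct HopfRep WithConv Matrix CoordGrp

namespace Groth.Agent.H20HM

noncomputable section

variable {k : Type u} [Field k] [IsAlgClosed k] [CharZero k]

omit [IsAlgClosed k] [CharZero k] in
/-- Right translation at points. -/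
theorem apply_actL {H : Type u} [CommRing H] [HopfAlgebra k H] (g h : WithConv (H →ₐ[k] k)) (f : H) :
    g.ofConv (H20Comod.actL h.ofConv.toLinearMap f) = (g * h).ofConv f := by
  rw [show (g * h).ofConv f = (g * h) f from rfl, AlgHom.convMul_apply, H20Comod.actL_apply]
  show g.ofConv (H20Comod.sliceR h.ofConv.toLinearMap (CoalgebraStruct.comul (R := k) f)) = _
  generalize CoalgebraStruct.comul (R := k) f = z
  induction z using TensorProduct.induction_on with
  | zero => simp
  | tmul x y => simp [mul_comm]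
  | add x y hx hy => simp only [map_add, hx, hy]

omit [IsAlgClosed k] [CharZero k] in
/-- Left translation at points. -/
theorem apply_coeff_pt {H : Type u} [CommRing H] [HopfAlgebra k H] (g h : WithConv (H →ₐ[k] k)) (f : H) :
    h.ofConv (H20Comod.coeff H g.ofConv.toLinearMap f) = (g * h).ofConv f :=
  (H20Comod.apply_coeff h.ofConv.toLinearMap g.ofConv.toLinearMap f).trans (apply_actL g h f)

theorem eq_of_forall_pt {H : Type u} [CommRing H] [HopfAlgebra k H] [Algebra.FiniteType k H] {a b : H}
    (h : ∀ g : WithConv (H →ₐ[k] k), g.ofConv a = g.ofConv b) : a = b := by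
  haveI : IsReduced H := H19Grp.HopfReduced.isReduced (k := k) (A := H)
  rw [← sub_eq_zero]
  exact H20Comod.Stability.eq_zero_of_forall_points (k := k) fun g => by
    rw [map_sub, sub_eq_zero]
    exact h (toConv g)

omit [IsAlgClosed k] [CharZero k] in
theorem apply_antipode {H : Type u} [CommRing H] [HopfAlgebra k H] (g : WithConv (H →ₐ[k] k)) (f : H) :
    g.ofConv (HopfAlgebra.antipode k f) = (cinv g).ofConv f := rfl

variable {A : Type u} [CommRing A] [HopfAlgebra k A] [Algebra.FiniteType k A] {N : ℕ}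

omit [CharZero k] [Algebra.FiniteType k A] in
/-- The translation by a point is bijective. -/
theorem actL_surjective (q : WithConv (A →ₐ[k] k)) (a : A) : ∃ a' : A, H20Comod.actL q.ofConv.toLinearMap a' = a := by
  refine ⟨H20Comod.actL (cinv q).ofConv.toLinearMap a, ?_⟩
  rw [← H20Comod.actL_conv]
  have h : H20Comod.conv q.ofConv.toLinearMap (cinv q).ofConv.toLinearMap = CoalgebraStruct.counit (R := k) (A := A) := by
    refine LinearMap.ext fun f => ?_
    have := congrArg (fun z : WithConv (A →ₐ[k] k) => z.ofConv f) (mul_cinv q)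
    exact this
  rw [h, H20Comod.actL_counit]

omit [CharZero k] in
theorem map_actL_mul (q : WithConv (A →ₐ[k] k)) (a b : A) :
    H20Comod.actL q.ofConv.toLinearMap (a * b) = H20Comod.actL q.ofConv.toLinearMap a * H20Comod.actL q.ofConv.toLinearMap b := by
  letI : GLin.IsCoactAlg k A A := ⟨Bialgebra.comul_one, Bialgebra.comul_mul⟩
  simp only [← H20Comod.OrbitPrimes.actAlg_apply, map_mul]

section Integral

variable {α : A →ₗ[k] k} (hα : H20Comod.IsIntegral α) (h1 : α 1 = 1)
include hα

omit [CharZero k] [IsAlgClosed k] [Algebra.FiniteType k A] in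
theorem integral_actL (φ : A →ₗ[k] k) (a : A) : α (H20Comod.actL φ a) = α a * φ 1 := by
  rw [← H20Comod.apply_coeff, H20Comod.coeff_apply]
  show φ (H20Comod.sliceL α (CoalgebraStruct.comul (R := k) a)) = _
  rw [hα a, map_smul, smul_eq_mul]

include h1 in
/-- The integral is non-degenerate. -/
theorem eq_zero_of_integral {ξ : A} (h : ∀ a, α (a * ξ) = 0) : ξ = 0 := by
  let J : Ideal A :=
    { carrier := {x | ∀ a, α (a * x) = 0}
      add_mem' := fun {x y} hx hy a => by rw [mul_add, map_add, hx a, hy a, add_zero]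
      zero_mem' := fun a => by rw [mul_zero, map_zero]
      smul_mem' := fun c x hx a => by rw [smul_eq_mul, ← mul_assoc]; exact hx _ }
  have hJ : J ≠ ⊤ := fun hh => one_ne_zero (h1.symm.trans (by
    simpa using (show (1 : A) ∈ J from hh ▸ Submodule.mem_top) 1))
  obtain ⟨p, hp⟩ := H20Comod.exists_point_le_ker (k := k) hJ
  refine eq_of_forall_pt (k := k) fun r => ?_
  rw [map_zero]
  have hmem : H20Comod.actL (cinv (toConv p) * r).ofConv.toLinearMap ξ ∈ J := fun a => by
    obtain ⟨a', rfl⟩ := actL_surjective (cinv (toConv p) * r) a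
    rw [← map_actL_mul, integral_actL hα, h a', zero_mul]
  have h0 := hp hmem
  rw [RingHom.mem_ker, show p (H20Comod.actL (cinv (toConv p) * r).ofConv.toLinearMap ξ) =
    (toConv p).ofConv (H20Comod.actL (cinv (toConv p) * r).ofConv.toLinearMap ξ) from rfl, apply_actL, ← mul_assoc,
    mul_cinv, one_mul] at h0
  exact h0

end Integral

variable (π : GLn N k →ₐc[k] A)

/-- The subgroup as a predicate on rational points. -/
def InG (g : GP k N k) : Prop := ∃ q : WithConv (A →ₐ[k] k), res π q = g

/-- The functions invariant under left translations by the subgroup. -/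
def Rleft : Subalgebra k (GLn N k) where
  carrier := {f | ∀ (q : WithConv (A →ₐ[k] k)) (g : GP k N k), (res π q * g).ofConv f = g.ofConv f}
  mul_mem' := fun {a b} ha hb q g => by rw [map_mul, map_mul, ha q g, hb q g]
  add_mem' := fun {a b} ha hb q g => by rw [map_add, map_add, ha q g, hb q g]
  algebraMap_mem' := fun c q g => by rw [AlgHom.commutes, AlgHom.commutes]

omit [IsAlgClosed k] [CharZero k] [Algebra.FiniteType k A] in
theorem mem_Rleft {f : GLn N k} : f ∈ Rleft π ↔
    ∀ (q : WithConv (A →ₐ[k] k)) (g : GP k N k), (res π q * g).ofConv f = g.ofConv f := Iff.rfl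

theorem isSubcomod_Rleft : IsSubcomod (k := k) (A := GLn N k) (Subalgebra.toSubmodule (Rleft π)) := by
  rw [H20Comod.isSubcomod_iff_forall_actL]
  intro f hf φ q g
  have hc : H20Comod.coeff (GLn N k) (res π q).ofConv.toLinearMap f = f :=
    eq_of_forall_pt (k := k) fun h => by rw [apply_coeff_pt]; exact hf q h
  rw [← apply_coeff_pt, H20Comod.actL_comm_of_isComodHom (H20Comod.isComodHom_coeff _), hc]

/-- Averaging over the subgroup. -/
def avg (α : A →ₗ[k] k) : GLn N k →ₗ[k] GLn N k := H20Comod.coeff (GLn N k) (α ∘ₗ (π : GLn N k →ₐ[k] A).toLinearMap)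

omit [IsAlgClosed k] [CharZero k] [Algebra.FiniteType k A] in
theorem apply_avg (α : A →ₗ[k] k) (g : GP k N k) (f : GLn N k) :
    g.ofConv (avg π α f) = α (π (H20Comod.actL g.ofConv.toLinearMap f)) :=
  H20Comod.apply_coeff g.ofConv.toLinearMap _ f

theorem pi_actL_res (q : WithConv (A →ₐ[k] k)) (f : GLn N k) :
    π (H20Comod.actL (res π q).ofConv.toLinearMap f) = H20Comod.actL q.ofConv.toLinearMap (π f) := by
  refine eq_of_forall_pt (k := k) fun p => ?_
  rw [apply_actL, show p.ofConv (π (H20Comod.actL (res π q).ofConv.toLinearMap f)) =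
    (res π p).ofConv (H20Comod.actL (res π q).ofConv.toLinearMap f) from rfl, apply_actL, ← res_mul]
  rfl

theorem avg_mem {α : A →ₗ[k] k} (hα : H20Comod.IsIntegral α) (f : GLn N k) : avg π α f ∈ Rleft π := fun q g => by
  rw [apply_avg, apply_avg, show H20Comod.actL (res π q * g).ofConv.toLinearMap f =
    H20Comod.actL (res π q).ofConv.toLinearMap (H20Comod.actL g.ofConv.toLinearMap f) from
      (H20Comod.actL_conv _ _ f), pi_actL_res, integral_actL hα, show q.ofConv.toLinearMap 1 = 1 from map_one q.ofConv, mul_one]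

theorem avg_mul (α : A →ₗ[k] k) {f : GLn N k} (hf : f ∈ Rleft π) (a : GLn N k) :
    avg π α (f * a) = f * avg π α a := by
  refine eq_of_forall_pt (k := k) fun g => ?_
  have hconst : π (H20Comod.actL g.ofConv.toLinearMap f) = algebraMap k A (g.ofConv f) := eq_of_forall_pt (k := k) fun q => by
    rw [AlgHom.commutes, show q.ofConv (π (H20Comod.actL g.ofConv.toLinearMap f)) =
      (res π q).ofConv (H20Comod.actL g.ofConv.toLinearMap f) from rfl, apply_actL]
    exact hf q g
  rw [map_mul g.ofConv, apply_avg, apply_avg, map_actL_mul, map_mul π, hconst, ← Algebra.smul_def, map_smul, smul_eq_mul]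

omit [CharZero k] [Algebra.FiniteType k A] in
theorem avg_one {α : A →ₗ[k] k} (h1 : α 1 = 1) : avg π α (1 : GLn N k) = 1 := by
  show H20Comod.sliceL _ (CoalgebraStruct.comul (R := k) (1 : GLn N k)) = 1
  rw [Bialgebra.comul_one, Algebra.TensorProduct.one_def, H20Comod.sliceL_tmul, LinearMap.comp_apply,
    show (π : GLn N k →ₐ[k] A).toLinearMap 1 = 1 from map_one π, h1, one_smul]

variable {π} (hπ : Function.Surjective π) {α : A →ₗ[k] k} (hα : H20Comod.IsIntegral α) (h1 : α 1 = 1)

omit [CharZero k] [Algebra.FiniteType k A] in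
include hπ in
theorem inG_iff (g : GP k N k) : InG π g ↔ ∀ f : GLn N k, π f = 0 → g.ofConv f = 0 := by
  refine ⟨fun ⟨q, hq⟩ f hf => by rw [← hq]; show q.ofConv (π f) = 0; rw [hf, map_zero], fun h => ?_⟩
  let θ := AlgHom.liftOfSurjective (π : GLn N k →ₐ[k] A) hπ g.ofConv fun f hf => h f hf
  exact ⟨toConv θ, WithConv.ofConv_injective (AlgHom.ext fun f => AlgHom.liftOfSurjective_apply (π : GLn N k →ₐ[k] A) hπ g.ofConv (fun f hf => h f hf) f)⟩

include hπ hα h1 in
/-- Invariant functions separate the subgroup from the other points. -/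
theorem inG_of_forall_Rleft (g : GP k N k)
    (h : ∀ f ∈ Rleft π, g.ofConv f = (1 : GP k N k).ofConv f) : InG π g := by
  rw [inG_iff hπ]
  intro f hf
  have key : π (H20Comod.actL g.ofConv.toLinearMap f) = 0 := by
    refine eq_zero_of_integral hα h1 fun a => ?_
    obtain ⟨a', rfl⟩ := hπ a
    obtain ⟨b, hb⟩ := actL_surjective (A := GLn N k) g a'
    have e1 := apply_avg π α g (b * f)
    rw [map_actL_mul, hb, map_mul π, h _ (avg_mem π hα _), apply_avg] at e1
    rw [← e1, show H20Comod.actL (1 : GP k N k).ofConv.toLinearMap (b * f) = b * f from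
      H20Comod.actL_counit (b * f), map_mul, hf, mul_zero, map_zero]
  have h0 := congrArg (fun x => (1 : WithConv (A →ₐ[k] k)).ofConv x) key
  simp only [map_zero] at h0
  rw [show (1 : WithConv (A →ₐ[k] k)).ofConv (π (H20Comod.actL g.ofConv.toLinearMap f)) =
    (res π (1 : WithConv (A →ₐ[k] k))).ofConv (H20Comod.actL g.ofConv.toLinearMap f) from rfl, apply_actL, res_one,
    one_mul] at h0
  exact h0

include hα h1 in
/-- Every point of the quotient lifts. -/
theorem exists_point_of_Rleft (φ : Rleft π →ₐ[k] k) : ∃ g : GP k N k, ∀ f : Rleft π, g.ofConv (f : GLn N k) = φ f := by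
  classical
  have hne : (RingHom.ker φ).map (Rleft π).val ≠ ⊤ := fun h => by
    have h1' : (1 : GLn N k) ∈ (RingHom.ker φ).map (Rleft π).val := h ▸ Submodule.mem_top
    rw [Ideal.map, Ideal.span, Finsupp.mem_span_image_iff_linearCombination] at h1'
    obtain ⟨l, hl, he⟩ := h1'
    rw [Finsupp.linearCombination_apply, Finsupp.sum] at he
    have he' := congrArg (avg π α) he
    rw [avg_one π h1, map_sum] at he'
    have h2 : ∑ x ∈ l.support, x * (⟨avg π α (l x), avg_mem π hα _⟩ : Rleft π) = 1 := by
      refine Subtype.ext ?_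
      rw [AddSubmonoidClass.coe_finset_sum]
      refine Eq.trans (Finset.sum_congr rfl fun x _ => ?_) he'
      rw [smul_eq_mul, mul_comm (l x), show ((Rleft π).val x : GLn N k) = (x : GLn N k) from rfl, avg_mul π α x.2]
      rfl
    have := congrArg φ h2
    rw [map_sum, map_one, Finset.sum_eq_zero fun x hx => by
      rw [map_mul, show φ x = 0 from (Finsupp.mem_supported _ _).1 hl hx, zero_mul]] at this
    exact zero_ne_one this
  obtain ⟨g, hg⟩ := H20Comod.exists_point_le_ker (k := k) hne
  refine ⟨toConv g, fun f => ?_⟩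
  have h0 : f - algebraMap k (Rleft π) (φ f) ∈ RingHom.ker φ := by simp
  have := hg (Ideal.mem_map_of_mem _ h0)
  simpa [sub_eq_zero] using this

omit [CharZero k] in
/-- A left-invariant function given by tensor slices. -/
theorem coact_eq_tmul_one {f : GLn N k}
    (h : ∀ (g : GP k N k) (q : WithConv (A →ₐ[k] k)), (g * res π q).ofConv f = g.ofConv f) [CharZero k] :
    TensorProduct.map LinearMap.id (π : GLn N k →ₗ[k] A) (CoalgebraStruct.comul (R := k) f) = f ⊗ₜ[k] (1 : A) := by
  refine H20Comod.eq_of_forall_sliceL fun φ => ?_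
  refine eq_of_forall_pt (k := k) fun q => ?_
  have key : H20Comod.actL (res π q).ofConv.toLinearMap f = f := eq_of_forall_pt (k := k) fun g => by rw [apply_actL]; exact h g q
  have e := congrArg φ key
  rw [H20Comod.sliceL_tmul, map_smul, map_one, smul_eq_mul, mul_one]
  refine Eq.trans ?_ e
  rw [H20Comod.actL_apply]
  show _ = φ (H20Comod.sliceR _ (CoalgebraStruct.comul (R := k) f))
  generalize CoalgebraStruct.comul (R := k) f = z
  induction z using TensorProduct.induction_on with
  | zero => simp
  | tmul x y => simp [res, mul_comm]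
  | add x y hx hy => simp only [map_add, hx, hy]

include hπ hα h1 in
/-- The left-invariant functions are generated by a finite right-stable family. -/
theorem exists_generators : ∃ (κ : Type) (_ : Fintype κ) (_ : DecidableEq κ) (y : κ → GLn N k)
    (E : Matrix κ κ (GLn N k)), IsCorep k E ∧ (∀ j, CoalgebraStruct.comul (R := k) (y j) = ∑ i, y i ⊗ₜ[k] E i j) ∧
      Algebra.adjoin k (Set.range y) = Rleft π := by
  classical
  letI cR : Comod k A (GLn N k) := GLin.comodAlong π (Comod.regular (k := k) (A := GLn N k))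
  haveI : GLin.IsCoactAlg k A (GLn N k) :=
    GLin.isCoactAlg_comodAlong π _ ⟨Bialgebra.comul_one, Bialgebra.comul_mul⟩
  obtain ⟨s, hs⟩ := H20Comod.exists_finset_invariants_adjoin (R := GLn N k) hα h1
  have hS : ∀ f ∈ GLin.invariants k A (GLn N k), HopfAlgebra.antipode k f ∈ Rleft π := fun f hf q g => by
    have hf' : TensorProduct.map LinearMap.id (π : GLn N k →ₗ[k] A) (CoalgebraStruct.comul (R := k) f) =
      f ⊗ₜ[k] (1 : A) := hf
    rw [apply_antipode, apply_antipode, cinv_mul_rev, ← res_inv, ← apply_actL]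
    congr 1
    rw [H20Comod.actL_apply]
    show H20Comod.sliceR _ (CoalgebraStruct.comul (R := k) f) = f
    have h3 : ∀ z : GLn N k ⊗[k] GLn N k, H20Comod.sliceR (res π (cinv q)).ofConv.toLinearMap z =
        H20Comod.sliceR (cinv q).ofConv.toLinearMap (TensorProduct.map LinearMap.id (π : GLn N k →ₗ[k] A) z) := fun z => by
      induction z using TensorProduct.induction_on with
      | zero => simp
      | tmul x y => simp [res]
      | add x y hx hy => simp only [map_add, hx, hy]
    rw [h3, hf', H20Comod.sliceR_tmul, show (cinv q).ofConv.toLinearMap 1 = 1 from map_one (cinv q).ofConv, one_smul]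
  have hS' : ∀ f ∈ Rleft π, HopfAlgebra.antipode k f ∈ GLin.invariants k A (GLn N k) := fun f hf => by
    show TensorProduct.map LinearMap.id (π : GLn N k →ₗ[k] A) (CoalgebraStruct.comul (R := k) _) = _
    refine coact_eq_tmul_one fun g q => ?_
    rw [apply_antipode, apply_antipode, cinv_mul_rev, ← res_inv]
    exact hf (cinv q) (cinv g)
  obtain ⟨W, hWfin, hsW, hW⟩ := H20Comod.exists_finite_subcomod (k := k) (A := GLn N k) (V := GLn N k)
    ((s.finite_toSet).image (HopfAlgebra.antipode k))
  have hW' : IsSubcomod (k := k) (A := GLn N k) (W ⊓ Subalgebra.toSubmodule (Rleft π)) :=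
    H20Comod.isSubcomod_inf hW (isSubcomod_Rleft π)
  haveI : Module.Finite k (W ⊓ Subalgebra.toSubmodule (Rleft π) : Submodule k (GLn N k)) :=
    Module.Finite.of_injective (Submodule.inclusion inf_le_left) (Submodule.inclusion_injective _)
  obtain ⟨κ, iκ, dκ, y, E, hE, hspan, hy⟩ := exists_corep_of_subcomod hW'
  refine ⟨κ, iκ, dκ, y, E, hE, hy, le_antisymm ?_ fun f hf => ?_⟩
  · rw [Algebra.adjoin_le_iff]
    rintro _ ⟨j, rfl⟩
    exact (hspan.le (Submodule.subset_span (Set.mem_range_self j))).2
  · have h2 : HopfAlgebra.antipode k f ∈ Algebra.adjoin k (s : Set (GLn N k)) := hs ▸ hS' f hf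
    have h3 : (HopfAlgebra.antipodeAlgHom k (GLn N k)) (HopfAlgebra.antipode k f) ∈
        (Algebra.adjoin k (s : Set (GLn N k))).map (HopfAlgebra.antipodeAlgHom k (GLn N k)) := ⟨_, h2, rfl⟩
    have hinv : (HopfAlgebra.antipodeAlgHom k (GLn N k)) (HopfAlgebra.antipode k f) = f := eq_of_forall_pt (k := k) fun g => by
      show (cinv (cinv g)).ofConv f = _
      rw [cinv_cinv]
    rw [hinv, AlgHom.map_adjoin] at h3
    refine Algebra.adjoin_le ?_ h3
    rintro _ ⟨x, hx, rfl⟩
    have hmem : HopfAlgebra.antipode k x ∈ W ⊓ Subalgebra.toSubmodule (Rleft π) :=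
      ⟨hsW ⟨x, hx, rfl⟩, hS x (hs.ge (Algebra.subset_adjoin hx))⟩
    have hsp : Submodule.span k (Set.range y) ≤ Subalgebra.toSubmodule (Algebra.adjoin k (Set.range y)) :=
      Submodule.span_le.2 Algebra.subset_adjoin
    exact hsp (hspan.ge hmem)

end

end Groth.Agent.H20HM
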