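import Groth.Agent.H20HM.Setup
import Groth.Agent.H19Grp.Cartier
import Mathlib.RingTheory.Smooth.Basic

/-!
# Tangent vectors of the homogeneous space lift to the general linear group
-/

set_option autoImplicit false

universe u

open TensorProduct HopfRep WithConv Matrix CoordGrp

namespace Groth.Agent.H20HM

noncomputable section

open CategoryTheory AlgebraicGeometry in
theorem formallySmooth_hopf (k A : Type u) [Field k] [CharZero k] [CommRing A] [HopfAlgebra k A]
    [Algebra.FiniteType k A] : Algebra.FormallySmooth k A := by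
  haveI : LocallyOfFiniteType ((Spec (CommRingCat.of A)).asOver (Spec (CommRingCat.of k))).hom :=
    inferInstanceAs (LocallyOfFiniteType (Spec (CommRingCat.of A) ↘ Spec (CommRingCat.of k)))
  have h := H19Grp.smooth_of_charZero ((Spec (CommRingCat.of A)).asOver (Spec (CommRingCat.of k)))
  have h' : Smooth (Spec.map (CommRingCat.ofHom (algebraMap k A))) := h
  rw [HasRingHomProperty.Spec_iff (P := @Smooth)] at h'
  exact (RingHom.smooth_algebraMap.1 h').formallySmooth

variable {k : Type u} [Field k] [IsAlgClosed k] [CharZero k] {A : Type u} [CommRing A] [HopfAlgebra k A]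
  [Algebra.FiniteType k A] {N : ℕ} {π : GLn N k →ₐc[k] A} (hπ : Function.Surjective π)
  {α : A →ₗ[k] k} (hα : H20Comod.IsIntegral α) (h1 : α 1 = 1)

omit [IsAlgClosed k] [CharZero k] [Algebra.FiniteType k A] in
theorem pi_antipode (f : GLn N k) : π (HopfAlgebra.antipode k f) = HopfAlgebra.antipode k (π f) := by
  have h : res π (cinv (toConv (AlgHom.id k A))) = cinv (res π (toConv (AlgHom.id k A))) := res_inv π _
  exact (congrArg (fun z : WithConv (GLn N k →ₐ[k] A) => z.ofConv f) h).symm

include hπ hα h1 in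
/-- The ideal of the subgroup is generated by invariant functions. -/
theorem mem_span_Rleft {f : GLn N k} (hf : π f = 0) :
    f ∈ Ideal.span {φ : GLn N k | φ ∈ Rleft π ∧ π φ = 0} := by
  classical
  letI cR : Comod k A (GLn N k) := GLin.comodAlong π (Comod.regular (k := k) (A := GLn N k))
  let K : Submodule k (GLn N k) := LinearMap.ker (π : GLn N k →ₐ[k] A).toLinearMap
  have hπcom : Hoch.IsComodHom A (π : GLn N k →ₐ[k] A).toLinearMap := by
    refine LinearMap.ext fun x => ?_
    show CoalgebraStruct.comul (R := k) (π x) = (π : GLn N k →ₐ[k] A).toLinearMap.rTensor A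
      (TensorProduct.map LinearMap.id (π : GLn N k →ₗ[k] A) (CoalgebraStruct.comul (R := k) x))
    rw [← CoalgHomClass.map_comp_comul_apply π x]
    generalize CoalgebraStruct.comul (R := k) x = z
    induction z using TensorProduct.induction_on with
    | zero => simp
    | tmul x y => simp
    | add x y hx hy => simp only [map_add, hx, hy]
  have hf0 : HopfAlgebra.antipode k f ∈ K := by
    show π (HopfAlgebra.antipode k f) = 0
    rw [pi_antipode, hf, map_zero]
  obtain ⟨W, hWfin, hsW, hW⟩ := H20Comod.exists_finite_subcomod (k := k) (A := A) (V := GLn N k)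
    (Set.finite_singleton (HopfAlgebra.antipode k f))
  have hW' : IsSubcomod (k := k) (A := A) (W ⊓ K) := H20Comod.isSubcomod_inf hW (H20Comod.isSubcomod_ker hπcom)
  haveI : Module.Finite k (W ⊓ K : Submodule k (GLn N k)) :=
    Module.Finite.of_injective (Submodule.inclusion inf_le_left) (Submodule.inclusion_injective _)
  let b := Module.finBasis k (W ⊓ K : Submodule k (GLn N k))
  obtain ⟨m, hm, hΔ, hε⟩ := H20Comod.exists_matCoeff_of_isSubcomod hW' b
  let u : Matrix (Fin (Module.finrank k (W ⊓ K : Submodule k (GLn N k)))) (Fin (Module.finrank k (W ⊓ K : Submodule k (GLn N k)))) A := m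
  have hu : IsCorep k u := ⟨hΔ, fun i j => (hε i j).trans Matrix.one_apply.symm⟩
  obtain ⟨κ, _, _, U, P, Q, hU, hPQ, heq⟩ := exists_extension π hπ hα h1 hu
  let F' : Fin (Module.finrank k (W ⊓ K : Submodule k (GLn N k))) → GLn N k := fun c => HopfAlgebra.antipode k (b c : GLn N k)
  let Φ : κ → GLn N k := (F' ᵥ* P.map (algebraMap k (GLn N k))) ᵥ* U
  have hF' : ∀ (q : WithConv (A →ₐ[k] k)) (g : GP k N k),
      (fun c => (res π q * g).ofConv (F' c)) = (fun c => g.ofConv (F' c)) ᵥ* ev u (cinv q) := fun q g => by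
    funext c
    show (cinv (res π q * g)).ofConv (b c : GLn N k) = _
    rw [cinv_mul_rev, ← res_inv, ← apply_actL, H20Comod.actL_apply]
    show (cinv g).ofConv (H20Comod.sliceR _ (CoalgebraStruct.comul (R := k) (b c : GLn N k))) = _
    have h3 : ∀ z : GLn N k ⊗[k] GLn N k, H20Comod.sliceR (res π (cinv q)).ofConv.toLinearMap z =
        H20Comod.sliceR (cinv q).ofConv.toLinearMap (TensorProduct.map LinearMap.id (π : GLn N k →ₗ[k] A) z) := fun z => by
      induction z using TensorProduct.induction_on with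
      | zero => simp
      | tmul x y => simp [res]
      | add x y hx hy => simp only [map_add, hx, hy]
    rw [h3, show TensorProduct.map LinearMap.id (π : GLn N k →ₗ[k] A) (CoalgebraStruct.comul (R := k) (b c : GLn N k)) =
      ∑ i, (b i : GLn N k) ⊗ₜ[k] u i c from hm c]
    simp only [map_sum, H20Comod.sliceR_tmul, map_smul, Matrix.vecMul, dotProduct, smul_eq_mul, ev_apply]
    exact Finset.sum_congr rfl fun i _ => mul_comm _ _
  have hev : ∀ g : GP k N k, (fun c => g.ofConv (Φ c)) = ((fun c => g.ofConv (F' c)) ᵥ* P) ᵥ* ev U g := fun g => by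
    funext c
    simp only [Φ, Matrix.vecMul, dotProduct, ev_apply, map_sum, map_mul, Matrix.map_apply, AlgHom.commutes, Algebra.algebraMap_self, RingHom.id_apply]
  have hΦR : ∀ c, Φ c ∈ Rleft π := fun c q g => by
    refine congrFun (?_ : (fun c => (res π q * g).ofConv (Φ c)) = fun c => g.ofConv (Φ c)) c
    have hP : P = ev u (cinv q) * P * ev U (res π q) := by
      have h' := congrArg (fun M : Matrix _ κ A => M.map q.ofConv) heq
      rw [Matrix.map_mul, Matrix.map_mul, Matrix.map_map, Matrix.map_map] at h'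
      have hid : (P.map (q.ofConv ∘ algebraMap k A)) = P := by ext i j; simp
      have hid' : (P.map (algebraMap k A)).map q.ofConv = P := by ext i j; simp
      simp only [hid] at h'
      calc P = ev u (cinv q) * ev u q * P := by rw [hu.ev_inv_mul, Matrix.one_mul]
        _ = ev u (cinv q) * (ev u q * P) := Matrix.mul_assoc _ _ _
        _ = ev u (cinv q) * (P * ev U (res π q)) := congrArg _ h'
        _ = _ := (Matrix.mul_assoc _ _ _).symm
    rw [hev, hev, hF', hU.ev_mul]
    conv_rhs => rw [hP]
    simp only [Matrix.vecMul_vecMul, Matrix.mul_assoc]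
  have hπΦ : ∀ c, π (Φ c) = 0 := fun c => by
    have hb : ∀ d, π (F' d) = 0 := fun d => by
      rw [pi_antipode, show π (b d : GLn N k) = 0 from (b d).2.2, map_zero]
    simp [Φ, Matrix.vecMul, dotProduct, map_sum, map_mul, hb]
  have hmem : ∀ d, F' d ∈ Ideal.span {φ : GLn N k | φ ∈ Rleft π ∧ π φ = 0} := fun d => by
    have hback : Φ ᵥ* U.map (HopfAlgebra.antipode k) ᵥ* Q.map (algebraMap k (GLn N k)) = F' := by
      simp only [Φ, Matrix.vecMul_vecMul]
      rw [show P.map (algebraMap k (GLn N k)) * U * U.map (HopfAlgebra.antipode k) * Q.map (algebraMap k (GLn N k)) =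
        (P * Q).map (algebraMap k (GLn N k)) by
          rw [Matrix.mul_assoc (P.map (algebraMap k (GLn N k))) U, hU.mul_antipode, Matrix.mul_one, Matrix.map_mul], hPQ,
        Matrix.map_one _ (map_zero _) (map_one _), Matrix.vecMul_one]
    rw [← hback]
    simp only [Matrix.vecMul, dotProduct]
    exact sum_mem fun x _ => Ideal.mul_mem_right _ _ (sum_mem fun y _ => Ideal.mul_mem_right _ _
      (Ideal.subset_span ⟨hΦR y, hπΦ y⟩))
  have hS : HopfAlgebra.antipode k f ∈ W ⊓ K := ⟨hsW rfl, hf0⟩
  have hfF : f = ∑ d, b.repr ⟨_, hS⟩ d • F' d := by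
    have hinv : (HopfAlgebra.antipode k) (HopfAlgebra.antipode k f) = f := eq_of_forall_pt (k := k) fun g => by
      show (cinv (cinv g)).ofConv f = _
      rw [cinv_cinv]
    conv_lhs => rw [← hinv, show HopfAlgebra.antipode k f = ((∑ d, b.repr ⟨_, hS⟩ d • b d : (W ⊓ K : Submodule k _)) : GLn N k) by
      rw [b.sum_repr]]
    rw [AddSubmonoidClass.coe_finset_sum, map_sum]
    exact Finset.sum_congr rfl fun d _ => map_smul _ _ _
  rw [hfF]
  exact sum_mem fun d _ => Submodule.smul_of_tower_mem _ _ (hmem d)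

include hπ hα h1 in
/-- Derivations at the identity coset extend. -/
theorem exists_tangent_one (δ : Rleft π →ₗ[k] k)
    (hδ : ∀ f g : Rleft π, δ (f * g) =
      (1 : GP k N k).ofConv (f : GLn N k) * δ g + (1 : GP k N k).ofConv (g : GLn N k) * δ f) :
    ∃ δ' : GLn N k →ₗ[k] k, (∀ a b, δ' (a * b) =
      (1 : GP k N k).ofConv a * δ' b + (1 : GP k N k).ofConv b * δ' a) ∧ ∀ f : Rleft π, δ' (f : GLn N k) = δ f := by
  classical
  set e := (1 : GP k N k).ofConv
  let S := {φ : Rleft π // π (φ : GLn N k) = 0}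
  let Ψ : (S →₀ GLn N k) →ₗ[GLn N k] GLn N k := Finsupp.linearCombination (GLn N k) fun φ : S => ((φ : Rleft π) : GLn N k)
  let Φ : (S →₀ GLn N k) →ₗ[k] A :=
    Finsupp.lsum k fun φ : S => δ (φ : Rleft π) • (π : GLn N k →ₐ[k] A).toLinearMap
  have heπ : ∀ a, e a = (1 : WithConv (A →ₐ[k] k)).ofConv (π a) := fun a => by
    show _ = (res π (1 : WithConv (A →ₐ[k] k))).ofConv a
    rw [res_one]
  have hker : ∀ l, Ψ l = 0 → Φ l = 0 := fun l hl => by
    refine eq_zero_of_integral hα h1 fun c => ?_
    obtain ⟨c, rfl⟩ := hπ c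
    have h2 : ∑ φ ∈ l.support, (φ : Rleft π) * ⟨avg π α (l φ * c), avg_mem π hα _⟩ = 0 := by
      refine Subtype.ext ?_
      rw [AddSubmonoidClass.coe_finset_sum]
      have h3 : ∑ φ ∈ l.support, ((φ : Rleft π) : GLn N k) * (l φ * c) = 0 := by
        have := congrArg (· * c) hl
        simp only [Ψ, Finsupp.linearCombination_apply, Finsupp.sum, zero_mul, Finset.sum_mul, smul_eq_mul] at this
        refine Eq.trans (Finset.sum_congr rfl fun φ _ => ?_) this
        ring
      have h4 := congrArg (avg π α) h3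
      rw [map_sum, map_zero] at h4
      refine Eq.trans (Finset.sum_congr rfl fun φ _ => ?_) h4
      rw [avg_mul π α (φ : Rleft π).2]
      rfl
    have h5 := congrArg δ h2
    rw [map_sum, map_zero] at h5
    refine Eq.trans ?_ h5
    simp only [Φ, Finsupp.coe_lsum, Finsupp.sum, Finset.mul_sum, map_sum]
    refine Finset.sum_congr rfl fun φ _ => ?_
    rw [hδ, show e ((φ : Rleft π) : GLn N k) = 0 by rw [heπ, φ.2, map_zero], zero_mul, zero_add,
      apply_avg, show H20Comod.actL e.toLinearMap (l φ * c) = l φ * c from H20Comod.actL_counit _, map_mul π,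
      LinearMap.smul_apply, mul_smul_comm, map_smul, smul_eq_mul, mul_comm (π c)]
    show δ (φ : Rleft π) * α (π (l φ) * π c) = _
    ring
  have hI : ∀ f, f ∈ RingHom.ker (π : GLn N k →ₐ[k] A) → ∃ l, Ψ l = f := fun f hf => by
    refine LinearMap.mem_range.1 (?_ : f ∈ LinearMap.range Ψ)
    rw [Finsupp.range_linearCombination]
    refine Submodule.span_mono ?_ (mem_span_Rleft hπ hα h1 (f := f) hf)
    rintro φ ⟨h, h'⟩
    exact ⟨⟨⟨φ, h⟩, h'⟩, rfl⟩
  choose lf hlf using hI
  let L : ∀ f, π f = 0 → k := fun f hf => (1 : WithConv (A →ₐ[k] k)).ofConv (Φ (lf f hf))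
  have hL : ∀ f (hf : π f = 0) l, Ψ l = f → L f hf = (1 : WithConv (A →ₐ[k] k)).ofConv (Φ l) := fun f hf l hl => by
    have := hker (lf f hf - l) (by rw [map_sub, hlf, hl, sub_self])
    rw [map_sub, sub_eq_zero] at this
    simp only [L, this]
  have hadd : ∀ f g (hf : π f = 0) (hg : π g = 0) (hfg : π (f + g) = 0), L (f + g) hfg = L f hf + L g hg :=
    fun f g hf hg hfg => by
      rw [hL _ hfg (lf f hf + lf g hg) (by rw [map_add, hlf, hlf]), map_add, map_add]
  have hmul : ∀ a f (hf : π f = 0) (haf : π (a * f) = 0), L (a * f) haf = e a * L f hf := fun a f hf haf => by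
    rw [hL _ haf (a • lf f hf) (by rw [map_smul, hlf, smul_eq_mul])]
    have : ∀ l, Φ (a • l) = π a * Φ l := fun l => by
      induction l using Finsupp.induction_linear with
      | zero => simp
      | add x y hx hy => simp only [smul_add, map_add, hx, hy, mul_add]
      | single φ x =>
        rw [Finsupp.smul_single]
        simp only [Φ, Finsupp.lsum_single, LinearMap.smul_apply, smul_eq_mul, mul_smul_comm]
        exact congrArg (δ (φ : Rleft π) • ·) (map_mul π a x)
    rw [this, map_mul, heπ]
  let K := RingHom.ker (π : GLn N k →ₐ[k] A)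
  have hL2 : ∀ f (hf : π f = 0), f ∈ K * K → L f hf = 0 := fun f hf hmem => by
    induction hmem using Submodule.mul_induction_on' with
    | mem_mul_mem x hx y hy =>
      rw [hmul x y hy, heπ, show π x = 0 from hx, map_zero, zero_mul]
    | add x hx y hy ihx ihy =>
      have hx' : π x = 0 := Ideal.mul_le_left hx
      have hy' : π y = 0 := Ideal.mul_le_left hy
      rw [hadd x y hx' hy', ihx hx', ihy hy', add_zero]
  haveI := formallySmooth_hopf k A
  let g : GLn N k ⧸ (K * K) →ₐ[k] A :=
    Ideal.Quotient.liftₐ (K * K) (π : GLn N k →ₐ[k] A) fun x hx => Ideal.mul_le_left hx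
  have hg : Function.Surjective g := fun a => by
    obtain ⟨x, rfl⟩ := hπ a
    exact ⟨Ideal.Quotient.mk _ x, rfl⟩
  have hnil : IsNilpotent (RingHom.ker (g : GLn N k ⧸ (K * K) →+* A)) := by
    refine ⟨2, ?_⟩
    have : RingHom.ker (g : GLn N k ⧸ (K * K) →+* A) ≤ K.map (Ideal.Quotient.mk _) := fun x hx => by
      obtain ⟨x, rfl⟩ := Ideal.Quotient.mk_surjective x
      exact Ideal.mem_map_of_mem _ hx
    rw [Ideal.zero_eq_bot, eq_bot_iff, pow_two]
    refine (Ideal.mul_mono this this).trans ?_
    rw [← Ideal.map_mul, Ideal.map_quotient_self]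
  let σ := Algebra.FormallySmooth.liftOfSurjective (AlgHom.id k A) g hg hnil
  choose ρ hρ using fun a : A => Ideal.Quotient.mk_surjective (σ a)
  have hρπ : ∀ a, π (ρ a) = a := fun a => by
    have := Algebra.FormallySmooth.liftOfSurjective_apply (AlgHom.id k A) g hg hnil a
    rwa [show Algebra.FormallySmooth.liftOfSurjective (AlgHom.id k A) g hg hnil a = σ a from rfl, ← hρ a] at this
  let D : GLn N k → GLn N k := fun a => a - ρ (π a)
  have hD : ∀ a, π (D a) = 0 := fun a => by simp [D, hρπ]
  have hcongr : ∀ f g (hf : π f = 0) (hg : π g = 0), f - g ∈ K * K → L f hf = L g hg := fun f g hf hg h => by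
    have hs : π (f - g) = 0 := by rw [map_sub, hf, hg, sub_zero]
    have h' : L (f - g + g) (by simpa using hf) = L (f - g) hs + L g hg := hadd _ _ _ _ _
    rw [hL2 _ hs h, zero_add] at h'
    simpa using h'
  have hmk : ∀ a, Ideal.Quotient.mk (K * K) (D a) = Ideal.Quotient.mk _ a - σ (π a) := fun a => by
    simp [D, hρ]
  let δ' : GLn N k →ₗ[k] k :=
    { toFun := fun a => L (D a) (hD a)
      map_add' := fun a b => by
        rw [← hadd (D a) (D b) (hD a) (hD b) (by rw [map_add, hD, hD, add_zero])]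
        refine hcongr _ _ _ _ (Ideal.Quotient.eq.1 ?_)
        simp only [hmk, map_add]
        ring
      map_smul' := fun c a => by
        have h0 := hmul (algebraMap k _ c) (D a) (hD a) (by rw [map_mul, hD, mul_zero])
        rw [show e (algebraMap k _ c) = c from AlgHom.commutes _ _] at h0
        refine Eq.trans ?_ (h0.trans rfl)
        refine hcongr _ _ _ _ (Ideal.Quotient.eq.1 ?_)
        rw [← Algebra.smul_def, map_smul (Ideal.Quotient.mkₐ k (K * K)) c (D a) |> fun e => (e : Ideal.Quotient.mk (K * K) (c • D a) = _)]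
        show _ = c • Ideal.Quotient.mk (K * K) (D a)
        rw [hmk, hmk, map_smul π, map_smul σ, smul_sub]
        congr 1 }
  refine ⟨δ', fun a b => ?_, fun f => ?_⟩
  · show L (D (a * b)) _ = e a * L (D b) _ + e b * L (D a) _
    have hB : π (ρ (π b) * D a) = 0 := by rw [map_mul, hD, mul_zero]
    have hA : π (a * D b) = 0 := by rw [map_mul, hD, mul_zero]
    have h2 : e b = e (ρ (π b)) := by rw [heπ, heπ, hρπ]
    rw [h2, ← hmul a (D b) (hD b) hA, ← hmul (ρ (π b)) (D a) (hD a) hB,
      ← hadd _ _ hA hB (by rw [map_add, hA, hB, add_zero])]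
    refine hcongr _ _ _ _ (Ideal.Quotient.eq.1 ?_)
    simp only [hmk, map_add, map_mul, hρ]
    ring
  · show L (D (f : GLn N k)) _ = δ f
    have hc : π (f : GLn N k) = algebraMap k A (e (f : GLn N k)) := eq_of_forall_pt (k := k) fun q => by
      rw [AlgHom.commutes]
      show (res π q).ofConv (f : GLn N k) = (1 : GP k N k).ofConv (f : GLn N k)
      have := f.2 q 1
      rwa [mul_one] at this
    let φ : Rleft π := f - algebraMap k (Rleft π) (e (f : GLn N k))
    have hφ : π (φ : GLn N k) = 0 := by simp [φ, hc, AlgHomClass.commutes]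
    have hLφ : L ((φ : GLn N k)) hφ = δ φ := by
      rw [hL _ hφ (Finsupp.single ⟨φ, hφ⟩ 1) (by simp [Ψ])]
      simp [Φ]
    have hδ1 : δ (algebraMap k (Rleft π) (e (f : GLn N k))) = 0 := by
      have h0 : δ 1 = 0 := by
        have := hδ 1 1
        rw [mul_one, OneMemClass.coe_one, map_one e, one_mul] at this
        linear_combination -this
      rw [Algebra.algebraMap_eq_smul_one, map_smul, h0, smul_zero]
    rw [← sub_zero (δ f), ← hδ1, ← map_sub, ← hLφ]
    refine hcongr _ _ _ _ (Ideal.Quotient.eq.1 ?_)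
    rw [hmk, hc, AlgHom.commutes]
    simp [φ]

include hπ hα h1 in
/-- Derivations at any coset extend. -/
theorem exists_tangent (h : GP k N k) (δ : Rleft π →ₗ[k] k)
    (hδ : ∀ f g : Rleft π, δ (f * g) = h.ofConv (f : GLn N k) * δ g + h.ofConv (g : GLn N k) * δ f) :
    ∃ δ' : GLn N k →ₗ[k] k, (∀ a b, δ' (a * b) = h.ofConv a * δ' b + h.ofConv b * δ' a) ∧
      ∀ f : Rleft π, δ' (f : GLn N k) = δ f := by
  have hmem : ∀ (g : GP k N k) (f : Rleft π), H20Comod.actL g.ofConv.toLinearMap (f : GLn N k) ∈ Rleft π := fun g f =>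
    H20Comod.actL_mem_of_isSubcomod (isSubcomod_Rleft π) _ f.2
  let τ : Rleft π →ₗ[k] Rleft π :=
    { toFun := fun f => ⟨H20Comod.actL (cinv h).ofConv.toLinearMap (f : GLn N k), hmem _ f⟩
      map_add' := fun a b => Subtype.ext (map_add _ _ _)
      map_smul' := fun c a => Subtype.ext (map_smul _ _ _) }
  have he : ∀ (g : GP k N k) (x : GLn N k), (1 : GP k N k).ofConv (H20Comod.actL g.ofConv.toLinearMap x) = g.ofConv x :=
    fun g x => by rw [apply_actL, one_mul]
  obtain ⟨δ₁, h1', h2'⟩ := exists_tangent_one hπ hα h1 (δ ∘ₗ τ) fun f g => by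
    have hfg : τ (f * g) = τ f * τ g := Subtype.ext (map_actL_mul _ _ _)
    rw [LinearMap.comp_apply, hfg, hδ, LinearMap.comp_apply, LinearMap.comp_apply]
    have hh : ∀ f : Rleft π, h.ofConv (τ f : GLn N k) = (1 : GP k N k).ofConv (f : GLn N k) := fun f => by
      show h.ofConv (H20Comod.actL (cinv h).ofConv.toLinearMap (f : GLn N k)) = _
      rw [apply_actL, mul_cinv]
    rw [hh, hh]
  refine ⟨δ₁ ∘ₗ H20Comod.actL h.ofConv.toLinearMap, fun a b => ?_, fun f => ?_⟩
  · rw [LinearMap.comp_apply, map_actL_mul, h1', he, he]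
    rfl
  · rw [LinearMap.comp_apply]
    refine (h2' ⟨_, hmem h f⟩).trans ?_
    rw [LinearMap.comp_apply]
    congr 1
    refine Subtype.ext (eq_of_forall_pt (k := k) fun g => ?_)
    show g.ofConv (H20Comod.actL (cinv h).ofConv.toLinearMap (H20Comod.actL h.ofConv.toLinearMap (f : GLn N k))) = _
    rw [apply_actL, apply_actL, mul_assoc, cinv_mul, mul_one]

end

end Groth.Agent.H20HM
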